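import Cfsg.Agent.Iso52.Pieces
import Cfsg.Agent.ClassOrder1.Matrix

/-!
Orders of invertible matrices of size eight in characteristic two with inversion-invariant characteristic
polynomial (helper52).
-/

set_option autoImplicit false

namespace Cfsg.Agent.Iso52

open Polynomial

section Orbits

variable {K : Type*} [Field K] (q : ℕ)

/-- `r^(q^j)` is `r` or its inverse. -/
def Ret (r : K) (j : ℕ) : Prop := 1 ≤ j ∧ (r ^ q ^ j = r ∨ r ^ q ^ j = r⁻¹)

/-- Half the orbit length. -/
noncomputable def period (r : K) : ℕ := sInf {j | Ret q r j}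

open scoped Classical in
/-- The torus type of a root. -/
noncomputable def typ (r : K) : Typ := (period q r, decide (r ^ q ^ period q r = r))

variable {q} (φ : K →+* K) (hφ : ∀ x, φ x = x ^ q)
include hφ

theorem pow_q_inj (j : ℕ) {x y : K} (h : x ^ q ^ j = y ^ q ^ j) : x = y := by
  induction j generalizing x y with
  | zero => simpa using h
  | succ n ih =>
    rw [pow_succ', pow_mul, pow_mul, ← hφ, ← hφ] at h
    exact φ.injective (ih h)

theorem typ_pow (r : K) (i : ℕ) : typ q (r ^ q ^ i) = typ q r := by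
  classical
  have e : ∀ j, (r ^ q ^ i) ^ q ^ j = (r ^ q ^ j) ^ q ^ i := fun j => by
    rw [← pow_mul, ← pow_mul, mul_comm]
  have h1 : ∀ j, Ret q (r ^ q ^ i) j ↔ Ret q r j := fun j => by
    unfold Ret
    rw [e, ← inv_pow]
    exact and_congr_right fun _ => or_congr ⟨fun h => pow_q_inj φ hφ i h, fun h => by rw [h]⟩
      ⟨fun h => pow_q_inj φ hφ i h, fun h => by rw [h]⟩
  have hp : period q (r ^ q ^ i) = period q r := by simp only [period, h1]
  unfold typ
  rw [hp, Prod.mk.injEq]
  exact ⟨rfl, decide_eq_decide.2 (by rw [e]; exact ⟨fun h => pow_q_inj φ hφ i h, fun h => by rw [h]⟩)⟩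

omit hφ in
theorem typ_inv (r : K) : typ q r⁻¹ = typ q r := by
  classical
  have h1 : ∀ j, Ret q r⁻¹ j ↔ Ret q r j := fun j => by
    unfold Ret
    rw [inv_pow, inv_inj, inv_inv, inv_eq_iff_eq_inv]
  have hp : period q r⁻¹ = period q r := by simp only [period, h1]
  unfold typ
  rw [hp, Prod.mk.injEq]
  exact ⟨rfl, decide_eq_decide.2 (by rw [inv_pow, inv_inj])⟩

theorem sum_typ_le [DecidableEq K] (D : Finset K) (h0 : ∀ r ∈ D, r ≠ 0 ∧ r * r ≠ 1)
    (hinv : ∀ r ∈ D, r⁻¹ ∈ D) (hfr : ∀ r ∈ D, r ^ q ∈ D) :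
    (∀ r ∈ D, Ret q r (period q r)) ∧ 2 * sumD (D.image (typ q)).val ≤ D.card := by
  classical
  have hmem : ∀ r ∈ D, ∀ j, r ^ q ^ j ∈ D := by
    intro r hr j
    induction j with
    | zero => simpa using hr
    | succ n ih => rw [pow_succ, pow_mul]; exact hfr _ ih
  have hret : ∀ r ∈ D, Ret q r (period q r) := by
    intro r hr
    obtain ⟨i, hi, j, hj, hne, hij⟩ := Finset.exists_ne_map_eq_of_card_lt_of_maps_to
      (s := Finset.range (D.card + 1)) (t := D) (f := fun j => r ^ q ^ j) (by simp) (fun j _ => hmem r hr j)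
    refine Nat.sInf_mem (s := {j | Ret q r j}) ?_
    rcases lt_or_gt_of_ne hne with hlt | hlt
    · refine ⟨j - i, by omega, Or.inl (pow_q_inj φ hφ i ?_)⟩
      rw [← pow_mul, ← pow_add, show j - i + i = j by omega]
      exact hij.symm
    · refine ⟨i - j, by omega, Or.inl (pow_q_inj φ hφ j ?_)⟩
      rw [← pow_mul, ← pow_add, show i - j + j = i by omega]
      exact hij
  refine ⟨hret, ?_⟩
  rw [sumD, Finset.sum_map_val, Finset.mul_sum, Finset.card_eq_sum_card_image (typ q) D]
  refine Finset.sum_le_sum fun t ht => ?_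
  obtain ⟨r, hr, rfl⟩ := Finset.mem_image.1 ht
  obtain ⟨hr0, hr1⟩ := h0 r hr
  let f : Fin (period q r) × Bool → K := fun p => if p.2 then r ^ q ^ (p.1 : ℕ) else (r ^ q ^ (p.1 : ℕ))⁻¹
  have hmin : ∀ i k : ℕ, i ≤ k → k < period q r →
      (r ^ q ^ i = r ^ q ^ k ∨ (r ^ q ^ i)⁻¹ = r ^ q ^ k) → i = k := by
    intro i k hik hk hor
    by_contra hne
    refine Nat.notMem_of_lt_sInf (s := {j | Ret q r j}) (show k - i < period q r by omega) ⟨by omega, ?_⟩
    have hk' : r ^ q ^ k = (r ^ q ^ (k - i)) ^ q ^ i := by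
      rw [← pow_mul, ← pow_add, show k - i + i = k by omega]
    rcases hor with h | h
    · exact Or.inl (pow_q_inj φ hφ i (hk' ▸ h.symm))
    · right; apply pow_q_inj φ hφ i; rw [← hk', inv_pow]; exact h.symm
  have hne : ∀ i : ℕ, (r ^ q ^ i)⁻¹ ≠ r ^ q ^ i := by
    intro i h
    obtain ⟨h00, h11⟩ := h0 _ (hmem r hr i)
    apply h11
    nth_rewrite 1 [← h]
    exact inv_mul_cancel₀ h00
  have hinj : Function.Injective f := by
    rintro ⟨⟨i, hi⟩, a⟩ ⟨⟨k, hk⟩, b⟩ h
    suffices hik : i = k by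
      subst hik
      cases a <;> cases b <;> simp only [f, Bool.false_eq_true, if_false, if_true] at h
      · rfl
      · exact absurd h (hne i)
      · exact absurd h.symm (hne i)
      · rfl
    rcases le_total i k with hle | hle
    · refine hmin i k hle hk ?_
      cases a <;> cases b <;> simp only [f, Bool.false_eq_true, if_false, if_true] at h
      · exact Or.inl (inv_injective h)
      · exact Or.inr h
      · exact Or.inr (by rw [h, inv_inv])
      · exact Or.inl h
    · refine (hmin k i hle hi ?_).symm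
      cases a <;> cases b <;> simp only [f, Bool.false_eq_true, if_false, if_true] at h
      · exact Or.inl (inv_injective h).symm
      · exact Or.inr (by rw [← h, inv_inv])
      · exact Or.inr h.symm
      · exact Or.inl h.symm
  calc 2 * (typ q r).1 = (Finset.univ.image f).card := by
        rw [Finset.card_image_of_injective _ hinj, Finset.card_univ, Fintype.card_prod, Fintype.card_fin,
          Fintype.card_bool, mul_comm]
        rfl
    _ ≤ _ := by
        refine Finset.card_le_card fun x hx => ?_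
        obtain ⟨⟨i, b⟩, -, rfl⟩ := Finset.mem_image.1 hx
        rw [Finset.mem_filter]
        cases b <;> simp only [f, Bool.false_eq_true, if_false, if_true]
        · exact ⟨hinv _ (hmem r hr _), by rw [typ_inv, typ_pow φ hφ]⟩
        · exact ⟨hmem r hr _, typ_pow φ hφ r _⟩

end Orbits

theorem pow_val_typ {K : Type*} [Field K] {q : ℕ} (hq : 1 ≤ q) {r : K} (hr : r ≠ 0)
    (h : Ret q r (period q r)) : r ^ val q (typ q r) = 1 := by
  classical
  set d := period q r
  have h1 : 1 ≤ q ^ d := Nat.one_le_pow _ _ hq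
  by_cases he : r ^ q ^ d = r
  · have ht : typ q r = (d, true) := Prod.ext rfl (decide_eq_true he)
    simp only [ht, val, if_true]
    apply mul_right_cancel₀ hr
    rw [← pow_succ, Nat.sub_add_cancel h1, one_mul]
    exact he
  · have ht : typ q r = (d, false) := Prod.ext rfl (decide_eq_false he)
    simp only [ht, val, Bool.false_eq_true, if_false]
    rw [pow_succ, h.2.resolve_left he, inv_mul_cancel₀ hr]

variable {F : Type*} [Field F] [Fintype F] [CharP F 2] {ι : Type*} [Fintype ι] [DecidableEq ι]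

theorem exists_fits (A : Matrix ι ι F) (hι : Fintype.card ι = 8) (hA : IsUnit A)
    (hs : A⁻¹.charpoly = A.charpoly) :
    ∃ (k : ℕ) (l : Multiset Typ), k ≤ 3 ∧ (∀ t ∈ l, 1 ≤ t.1) ∧ Fits k l ∧
      A ^ Nat.lcm (2 ^ k) (expo (Fintype.card F) l) = 1 := by
  classical
  haveI : Fact (Nat.Prime 2) := ⟨Nat.prime_two⟩
  obtain ⟨f, -, hq⟩ := FiniteField.card F 2
  set q := Fintype.card F with hqdef
  have hq1 : 1 ≤ q := Fintype.card_pos
  haveI : CharP (AlgebraicClosure F) 2 := charP_of_injective_algebraMap (algebraMap F _).injective 2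
  let φ : AlgebraicClosure F →+* AlgebraicClosure F := iterateFrobenius (AlgebraicClosure F) 2 f
  have hφ : ∀ x, φ x = x ^ q := fun x => by rw [hq]; exact iterateFrobenius_def ..
  set P := A.charpoly.map (algebraMap F (AlgebraicClosure F)) with hP
  have hPmonic : P.Monic := A.charpoly_monic.map _
  set S := P.roots with hS
  have hScard : S.card = 8 := by
    rw [hS, ← (IsAlgClosed.splits P).natDegree_eq_card_roots, hP, natDegree_map, Matrix.charpoly_natDegree_eq_dim,
      hι]
  have hS0 : (0 : AlgebraicClosure F) ∉ S := by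
    intro h0
    rw [hS, mem_roots hPmonic.ne_zero, IsRoot, hP, eval_map, eval₂_at_zero, map_eq_zero] at h0
    have hdet := Matrix.det_eq_sign_charpoly_coeff A
    rw [h0, mul_zero] at hdet
    exact ((Matrix.isUnit_iff_isUnit_det A).mp hA).ne_zero hdet
  have hSinv : S.map (·⁻¹) = S := by
    have h1 : A.charpoly = C ((-1) ^ Fintype.card ι * A.det⁻¹) * A.charpoly.reverse := by
      conv_lhs => rw [← hs, Matrix.charpoly_inv A hA, ← Matrix.reverse_charpoly, Ring.inverse_eq_inv']
      rw [map_mul, map_pow, map_neg, map_one]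
    have hc : (-1) ^ Fintype.card ι * A.det⁻¹ ≠ 0 :=
      mul_ne_zero (pow_ne_zero _ (by simp)) (inv_ne_zero ((Matrix.isUnit_iff_isUnit_det A).mp hA).ne_zero)
    have h2 := congrArg (fun R => (R.map (algebraMap F (AlgebraicClosure F))).roots) h1
    simp only [Polynomial.map_mul, map_C] at h2
    rw [← hP, ← hS, reverse, ← reflect_map,
      ← natDegree_map_eq_of_injective (algebraMap F (AlgebraicClosure F)).injective A.charpoly, ← hP, ← reverse,
      (IsAlgClosed.splits P).eq_prod_roots_of_monic hPmonic, ← hS,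
      ClassOrder1.roots_smul_reverse_prod _ hS0 _ (by rwa [_root_.map_ne_zero])] at h2
    exact h2.symm
  have hSfr : S.map φ = S := by
    rw [hS, ← (IsAlgClosed.splits P).roots_map_of_injective φ.injective, hP, map_map]
    congr 2
    refine RingHom.ext fun x => ?_
    rw [RingHom.comp_apply, hφ, ← map_pow, hqdef, FiniteField.pow_card]
  have hcinv : ∀ r, S.count r⁻¹ = S.count r := fun r => by
    conv_lhs => rw [← hSinv]
    exact Multiset.count_map_eq_count' (·⁻¹) S inv_injective r
  set D := S.toFinset.erase 1 with hD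
  have hD1 : ∀ r ∈ D, r ≠ 0 ∧ r * r ≠ 1 := fun r hr => by
    rw [hD, Finset.mem_erase, Multiset.mem_toFinset] at hr
    refine ⟨fun h => hS0 (h ▸ hr.2), fun h => hr.1 ?_⟩
    rcases mul_self_eq_one_iff.1 h with h | h
    · exact h
    · rw [h, CharTwo.neg_eq]
  have hDinv : ∀ r ∈ D, r⁻¹ ∈ D := fun r hr => by
    rw [hD, Finset.mem_erase, Multiset.mem_toFinset] at hr ⊢
    exact ⟨fun h => hr.1 (inv_eq_one.1 h), hSinv ▸ Multiset.mem_map_of_mem _ hr.2⟩
  have hDfr : ∀ r ∈ D, r ^ q ∈ D := fun r hr => by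
    rw [hD, Finset.mem_erase, Multiset.mem_toFinset] at hr ⊢
    refine ⟨fun h => hr.1 (φ.injective ?_), hφ r ▸ hSfr ▸ Multiset.mem_map_of_mem _ hr.2⟩
    rw [hφ, h, map_one]
  obtain ⟨hret, hsum⟩ := sum_typ_le φ hφ D hD1 hDinv hDfr
  set T := D.image (typ q) with hT
  -- multiplicities
  have htot : S.count 1 + ∑ r ∈ D, S.count r = 8 := by
    rw [← hScard, ← Multiset.toFinset_sum_count_eq]
    by_cases h1 : (1 : AlgebraicClosure F) ∈ S.toFinset
    · rw [← Finset.add_sum_erase _ _ h1]
    · rw [hD, Finset.erase_eq_of_notMem h1, Multiset.count_eq_zero.2 fun h => h1 (Multiset.mem_toFinset.2 h),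
        zero_add]
  have hDcount : D.card ≤ ∑ r ∈ D, S.count r := by
    rw [Finset.card_eq_sum_ones]
    exact Finset.sum_le_sum fun r hr => Multiset.one_le_count_iff_mem.2
      (Multiset.mem_toFinset.1 (Finset.mem_of_mem_erase hr))
  have hDmult : ∀ r ∈ D, 2 * S.count r + (D.card - 2) ≤ ∑ x ∈ D, S.count x := fun r hr => by
    have hri : r⁻¹ ≠ r := fun h => (hD1 r hr).2 (by nth_rewrite 1 [← h]; exact inv_mul_cancel₀ (hD1 r hr).1)
    have hsub : ({r, r⁻¹} : Finset _) ⊆ D := by
      intro x hx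
      rcases Finset.mem_insert.1 hx with rfl | hx
      · exact hr
      · rw [Finset.mem_singleton.1 hx]; exact hDinv r hr
    rw [← Finset.sum_sdiff hsub, Finset.sum_pair hri.symm, hcinv, add_comm (∑ x ∈ _, _), ← two_mul]
    refine Nat.add_le_add le_rfl (le_trans ?_ (Finset.sum_le_sum (f := fun _ => 1) fun x hx =>
      Multiset.one_le_count_iff_mem.2 (Multiset.mem_toFinset.1 (Finset.mem_of_mem_erase (Finset.mem_sdiff.1 hx).1))))
    rw [← Finset.card_eq_sum_ones, Finset.card_sdiff_of_subset hsub, Finset.card_pair hri.symm]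
  -- the unipotent exponent
  have hk : ∃ k, k ≤ 3 ∧ k + sumD T.val ≤ 4 ∧ ∀ r, S.count r ≤ 2 ^ k := by
    have hb : ∀ r, S.count r ≤ 8 := fun r => hScard ▸ Multiset.count_le_card r S
    obtain ⟨m, hm, hmle⟩ : ∃ m, (m = S.count 1 ∨ ∃ r ∈ D, m = S.count r) ∧ ∀ r, S.count r ≤ m := by
      obtain ⟨m, hmm, hmax⟩ := Finset.exists_max_image (insert 1 D) (fun r => S.count r) (Finset.insert_nonempty _ _)
      refine ⟨S.count m, ?_, fun r => ?_⟩
      · rcases Finset.mem_insert.1 hmm with rfl | h
        · exact Or.inl rfl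
        · exact Or.inr ⟨m, h, rfl⟩
      · by_cases hr : r ∈ S
        · refine hmax r ?_
          by_cases h1 : r = 1
          · exact Finset.mem_insert.2 (Or.inl h1)
          · exact Finset.mem_insert.2 (Or.inr (Finset.mem_erase.2 ⟨h1, Multiset.mem_toFinset.2 hr⟩))
        · rw [Multiset.count_eq_zero.2 hr]; exact Nat.zero_le _
    refine ⟨if m ≤ 1 then 0 else if m ≤ 2 then 1 else if m ≤ 4 then 2 else 3, by split_ifs <;> omega, ?_,
      fun r => ?_⟩
    · rcases hm with hm | ⟨r, hr, hm⟩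
      · split_ifs <;> omega
      · have := hDmult r hr
        split_ifs <;> omega
    · have := hmle r
      have := hb r
      split_ifs <;> norm_num <;> omega
  obtain ⟨k, hk3, hksum, hcount⟩ := hk
  have hTmem : ∀ t ∈ T, t ∈ (Finset.Icc 1 4) ×ˢ (Finset.univ : Finset Bool) := fun t ht => by
    have h4 : t.1 ≤ sumD T.val := Multiset.le_sum_of_mem (Multiset.mem_map_of_mem _ ht)
    obtain ⟨r, hr, rfl⟩ := Finset.mem_image.1 ht
    exact Finset.mem_product.2 ⟨Finset.mem_Icc.2 ⟨(hret r hr).1, by omega⟩, Finset.mem_univ _⟩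
  obtain ⟨l, hl1, hlf, hcov⟩ : ∃ l : Multiset Typ, (∀ t ∈ l, 1 ≤ t.1) ∧ Fits k l ∧
      ∀ t ∈ T, val q t ∣ expo q l := by
    rcases table T (Finset.mem_powerset.2 hTmem) k (Finset.mem_range.2 (by omega)) hksum with h | ⟨l, -, h1, h2, h3⟩
    · exact ⟨T.val, fun t ht => (Finset.mem_Icc.1 (Finset.mem_product.1 (hTmem t ht)).1).1, h,
        fun t ht => Multiset.dvd_lcm (Multiset.mem_map_of_mem _ ht)⟩
    · refine ⟨l, h2, h1, fun t ht => dvd_expo_of_covL ?_ hq1 (h3 t ht)⟩
      rw [hq]
      exact (Nat.even_pow' f.pos.ne').2 even_two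
  refine ⟨k, l, hk3, hl1, hlf, ?_⟩
  have hroot : ∀ r ∈ S, r ^ expo q l = algebraMap F (AlgebraicClosure F) 1 := fun r hr => by
    rw [map_one]
    by_cases h1 : r = 1
    · rw [h1, one_pow]
    · have hrD : r ∈ D := Finset.mem_erase.2 ⟨h1, Multiset.mem_toFinset.2 hr⟩
      obtain ⟨c, hc⟩ := hcov _ (Finset.mem_image_of_mem _ hrD)
      rw [hc, pow_mul, pow_val_typ hq1 (hD1 r hrD).1 (hret r hrD), one_pow]
  have hkill := ClassOrder1.pow_eq_of_roots 2 A (expo q l) k 1 hroot hcount
  rw [one_pow, map_one] at hkill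
  have hodd : Odd (expo q l) := by
    have hqe : Even q := by rw [hq]; exact (Nat.even_pow' f.pos.ne').2 even_two
    have hv : ∀ t ∈ l, Odd (val q t) := fun t ht => by
      have hd := hl1 t ht
      have he : Even (q ^ t.1) := (Nat.even_pow' (by omega)).2 hqe
      unfold val
      split_ifs
      · exact Nat.Even.sub_odd (Nat.one_le_pow _ _ hq1) he odd_one
      · exact he.add_one
    clear hcov hlf hroot hkill hl1
    induction l using Multiset.induction with
    | empty => simp [expo]
    | cons t l ih =>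
      rw [expo, Multiset.map_cons, Multiset.lcm_cons, lcm_eq_nat_lcm]
      have h1 := hv t (Multiset.mem_cons_self _ _)
      have h2 := ih fun u hu => hv u (Multiset.mem_cons_of_mem hu)
      exact (h1.mul h2).of_dvd_nat (Nat.lcm_dvd_mul _ _)
  rw [(Nat.Coprime.pow_left k (Nat.coprime_two_left.2 hodd)).lcm_eq_mul, mul_comm]
  exact hkill

end Cfsg.Agent.Iso52
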