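import Cfsg.Agent.Iso52.Bound

/-!
When the norm of an isometry of rank parity zero is non-zero, twice its order is still attained (helper52).
-/

set_option autoImplicit false

namespace Cfsg.Agent.Iso52

open Polynomial

variable {F : Type*} [Field F] [Fintype F] [CharP F 2] {ι : Type*} [Fintype ι] [DecidableEq ι]

/-- The geometric sum of an endomorphism of order `2^j * o` in characteristic two. -/
theorem geom_split (j o : ℕ) :
    (∑ i ∈ Finset.range (2 ^ j * o), (X : F[X]) ^ i) =
      (X - 1) ^ (2 ^ j - 1) * ∑ i ∈ Finset.range o, (X : F[X]) ^ (2 ^ j * i) := by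
  haveI : Fact (Nat.Prime 2) := ⟨Nat.prime_two⟩
  have hX : (X : F[X]) - 1 ≠ 0 := by
    rw [← C_1]; exact X_sub_C_ne_zero 1
  apply mul_right_cancel₀ hX
  rw [geom_sum_mul, mul_right_comm, ← pow_succ, Nat.sub_add_cancel Nat.one_le_two_pow, sub_pow_char_pow, one_pow,
    mul_comm]
  have h := geom_sum_mul ((X : F[X]) ^ 2 ^ j) o
  simp only [← pow_mul] at h
  linear_combination -h

theorem exists_fits_double (A : Matrix ι ι F) (hι : Fintype.card ι = 8) (hA : IsUnit A)
    (hs : A⁻¹.charpoly = A.charpoly) (heven : Even (A - 1).rank) (hn0 : 0 < orderOf A)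
    (hsum : (∑ i ∈ Finset.range (orderOf A), A ^ i) ≠ 0) :
    ∃ (k : ℕ) (l : Multiset Typ), k ≤ 3 ∧ (∀ t ∈ l, 1 ≤ t.1) ∧ Fits k l ∧
      2 * orderOf A ∣ Nat.lcm (2 ^ k) (expo (Fintype.card F) l) := by
  classical
  haveI : Fact (Nat.Prime 2) := ⟨Nat.prime_two⟩
  obtain ⟨f, -, hq⟩ := FiniteField.card F 2
  set q := Fintype.card F with hqdef
  have hq1 : 1 ≤ q := Fintype.card_pos
  haveI : CharP (AlgebraicClosure F) 2 := charP_of_injective_algebraMap (algebraMap F _).injective 2
  let φ : AlgebraicClosure F →+* AlgebraicClosure F := iterateFrobenius (AlgebraicClosure F) 2 f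
  have hφ : ∀ x, φ x = x ^ q := fun x => by rw [hq]; exact iterateFrobenius_def ..
  set P := A.charpoly.map (algebraMap F (AlgebraicClosure F)) with hP
  have hPmonic : P.Monic := A.charpoly_monic.map _
  set S := P.roots with hS
  have hScard : S.card = 8 := by
    rw [hS, ← (IsAlgClosed.splits P).natDegree_eq_card_roots, hP, natDegree_map, Matrix.charpoly_natDegree_eq_dim,
      hι]
  have hS0 : (0 : AlgebraicClosure F) ∉ S := by
    intro h0
    rw [hS, mem_roots hPmonic.ne_zero, IsRoot, hP, eval_map, eval₂_at_zero, map_eq_zero] at h0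
    have hdet := Matrix.det_eq_sign_charpoly_coeff A
    rw [h0, mul_zero] at hdet
    exact ((Matrix.isUnit_iff_isUnit_det A).mp hA).ne_zero hdet
  have hSinv : S.map (·⁻¹) = S := by
    have h1 : A.charpoly = C ((-1) ^ Fintype.card ι * A.det⁻¹) * A.charpoly.reverse := by
      conv_lhs => rw [← hs, Matrix.charpoly_inv A hA, ← Matrix.reverse_charpoly, Ring.inverse_eq_inv']
      rw [map_mul, map_pow, map_neg, map_one]
    have hc : (-1) ^ Fintype.card ι * A.det⁻¹ ≠ 0 :=
      mul_ne_zero (pow_ne_zero _ (by simp)) (inv_ne_zero ((Matrix.isUnit_iff_isUnit_det A).mp hA).ne_zero)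
    have h2 := congrArg (fun R => (R.map (algebraMap F (AlgebraicClosure F))).roots) h1
    simp only [Polynomial.map_mul, map_C] at h2
    rw [← hP, ← hS, reverse, ← reflect_map,
      ← natDegree_map_eq_of_injective (algebraMap F (AlgebraicClosure F)).injective A.charpoly, ← hP, ← reverse,
      (IsAlgClosed.splits P).eq_prod_roots_of_monic hPmonic, ← hS,
      ClassOrder1.roots_smul_reverse_prod _ hS0 _ (by rwa [_root_.map_ne_zero])] at h2
    exact h2.symm
  have hSfr : S.map φ = S := by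
    rw [hS, ← (IsAlgClosed.splits P).roots_map_of_injective φ.injective, hP, map_map]
    congr 2
    refine RingHom.ext fun x => ?_
    rw [RingHom.comp_apply, hφ, ← map_pow, hqdef, FiniteField.pow_card]
  have hcinv : ∀ r, S.count r⁻¹ = S.count r := fun r => by
    conv_lhs => rw [← hSinv]
    exact Multiset.count_map_eq_count' (·⁻¹) S inv_injective r
  set D := S.toFinset.erase 1 with hD
  have hD1 : ∀ r ∈ D, r ≠ 0 ∧ r * r ≠ 1 := fun r hr => by
    rw [hD, Finset.mem_erase, Multiset.mem_toFinset] at hr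
    refine ⟨fun h => hS0 (h ▸ hr.2), fun h => hr.1 ?_⟩
    rcases mul_self_eq_one_iff.1 h with h | h
    · exact h
    · rw [h, CharTwo.neg_eq]
  have hDinv : ∀ r ∈ D, r⁻¹ ∈ D := fun r hr => by
    rw [hD, Finset.mem_erase, Multiset.mem_toFinset] at hr ⊢
    exact ⟨fun h => hr.1 (inv_eq_one.1 h), hSinv ▸ Multiset.mem_map_of_mem _ hr.2⟩
  have hDfr : ∀ r ∈ D, r ^ q ∈ D := fun r hr => by
    rw [hD, Finset.mem_erase, Multiset.mem_toFinset] at hr ⊢
    refine ⟨fun h => hr.1 (φ.injective ?_), hφ r ▸ hSfr ▸ Multiset.mem_map_of_mem _ hr.2⟩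
    rw [hφ, h, map_one]
  obtain ⟨hret, hsumT⟩ := sum_typ_le φ hφ D hD1 hDinv hDfr
  set T := D.image (typ q) with hT
  have htot : S.count 1 + ∑ r ∈ D, S.count r = 8 := by
    rw [← hScard, ← Multiset.toFinset_sum_count_eq]
    by_cases h1 : (1 : AlgebraicClosure F) ∈ S.toFinset
    · rw [← Finset.add_sum_erase _ _ h1]
    · rw [hD, Finset.erase_eq_of_notMem h1, Multiset.count_eq_zero.2 fun h => h1 (Multiset.mem_toFinset.2 h),
        zero_add]
  have hDcount : D.card ≤ ∑ r ∈ D, S.count r := by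
    rw [Finset.card_eq_sum_ones]
    exact Finset.sum_le_sum fun r hr => Multiset.one_le_count_iff_mem.2
      (Multiset.mem_toFinset.1 (Finset.mem_of_mem_erase hr))
  have hDeven : Even (∑ r ∈ D, S.count r) := by
    rw [← ZMod.natCast_eq_zero_iff_even, Nat.cast_sum]
    refine Finset.sum_involution (fun r _ => r⁻¹) (fun r _ => ?_) (fun r hr _ => ?_) (fun r hr => hDinv r hr)
      (fun r _ => inv_inv r)
    · rw [hcinv]; exact CharTwo.add_self_eq_zero _
    · intro h
      exact (hD1 r hr).2 (by nth_rewrite 1 [← h]; exact inv_mul_cancel₀ (hD1 r hr).1)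
  -- the multiplicity of `1`
  obtain ⟨j, o, ho, hn⟩ := Nat.exists_eq_two_pow_mul_odd (n := orderOf A) hn0.ne'
  let x : Module.End F (ι → F) := Matrix.toLinAlgEquiv' A
  have hxn : x ^ (2 ^ j * o) = 1 := by rw [← hn, ← map_pow, pow_orderOf_eq_one, map_one]
  have ha : 2 ^ j < S.count 1 := by
    have hv : (∑ i ∈ Finset.range (2 ^ j * o), x ^ i) ≠ 0 := by
      rw [← hn]
      intro h
      apply hsum
      apply (Matrix.toLinAlgEquiv' : Matrix ι ι F ≃ₐ[F] _).injective
      rw [map_zero, map_sum]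
      simpa only [map_pow] using h
    set N : Module.End F (ι → F) := x - 1 with hN
    set R : Module.End F (ι → F) := ∑ i ∈ Finset.range o, x ^ (2 ^ j * i) with hR
    have hgeom : (∑ i ∈ Finset.range (2 ^ j * o), x ^ i) = N ^ (2 ^ j - 1) * R := by
      have := congrArg (aeval x) (geom_split (F := F) j o)
      simpa [map_sum, hN, hR] using this
    obtain ⟨v, hvv⟩ : ∃ v, (N ^ (2 ^ j - 1)) (R v) ≠ 0 := by
      by_contra! h
      exact hv (hgeom.trans (LinearMap.ext h))
    have htop : (N ^ (2 ^ j)) (R v) = 0 := by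
      rw [← Module.End.mul_apply, ← Nat.sub_add_cancel (Nat.one_le_two_pow (n := j)), pow_succ',
        mul_assoc, ← hgeom, hN, mul_geom_sum, hxn, sub_self, LinearMap.zero_apply]
    have hlt : ∀ i, i < 2 ^ j → Module.finrank F (LinearMap.ker (N ^ i)) <
        Module.finrank F (LinearMap.ker (N ^ (i + 1))) := by
      intro i hi
      have hle : LinearMap.ker (N ^ i) ≤ LinearMap.ker (N ^ (i + 1)) := fun w hw => by
        rw [LinearMap.mem_ker] at hw ⊢
        rw [pow_succ', Module.End.mul_apply, hw, map_zero]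
      refine Submodule.finrank_lt_finrank_of_lt (lt_of_le_of_ne hle fun h => hvv ?_)
      have h1 := Module.End.ker_pow_constant h (2 ^ j - 1 - i)
      have h2 := Module.End.ker_pow_constant h (2 ^ j - i)
      rw [show i + (2 ^ j - 1 - i) = 2 ^ j - 1 by omega] at h1
      rw [show i + (2 ^ j - i) = 2 ^ j by omega] at h2
      rw [← LinearMap.mem_ker, ← h1, h2, LinearMap.mem_ker]
      exact htop
    have hgrow : ∀ i, i + 1 ≤ 2 ^ j →
        Module.finrank F (LinearMap.ker N) + i ≤ Module.finrank F (LinearMap.ker (N ^ (i + 1))) := by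
      intro i hi
      induction i with
      | zero => rw [zero_add, pow_one, add_zero]
      | succ i ih => have := hlt (i + 1) (by omega); have := ih (by omega); omega
    have hker1 : 1 ≤ Module.finrank F (LinearMap.ker N) := by
      have := hlt 0 Nat.one_le_two_pow
      rw [pow_one] at this
      omega
    have hle1 : Module.finrank F (LinearMap.ker (N ^ (2 ^ j))) ≤ S.count 1 := by
      have h1 : Module.finrank F (Module.End.maxGenEigenspace x 1) = S.count 1 := by
        rw [LinearMap.finrank_maxGenEigenspace_eq, hS, Polynomial.count_roots, hP,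
          ← map_one (algebraMap F (AlgebraicClosure F)),
          ← eq_rootMultiplicity_map (algebraMap F (AlgebraicClosure F)).injective]
        congr 1
        exact Matrix.charpoly_toLin' A
      rw [← h1]
      refine Submodule.finrank_mono fun w hw => ?_
      rw [Module.End.mem_maxGenEigenspace]
      exact ⟨2 ^ j, by rw [one_smul]; exact hw⟩
    have hbig := hgrow (2 ^ j - 1) (by have := Nat.one_le_two_pow (n := j); omega)
    rw [Nat.sub_add_cancel Nat.one_le_two_pow] at hbig
    have hpos : 1 ≤ 2 ^ j := Nat.one_le_two_pow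
    by_contra hcon
    have hker : Module.finrank F (LinearMap.ker N) = 1 := by omega
    have hrank : (A - 1).rank + 1 = 8 := by
      have h3 : (A - 1).mulVecLin = N := by
        rw [hN]
        show Matrix.mulVecLin (A - 1) = Matrix.toLinAlgEquiv' A - 1
        rw [← map_one (Matrix.toLinAlgEquiv' : Matrix ι ι F ≃ₐ[F] _), ← map_sub]
        rfl
      rw [Matrix.rank, h3, ← hker, LinearMap.finrank_range_add_finrank_ker, Module.finrank_fintype_fun_eq_card, hι]
    obtain ⟨c, hc⟩ := heven
    omega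
  have hev1 : Even (S.count 1) := by
    have h8 : Even (S.count 1 + ∑ r ∈ D, S.count r) := htot ▸ ⟨4, rfl⟩
    rwa [Nat.even_add, iff_true_right hDeven] at h8
  have hj : j + 1 ≤ 3 ∧ j + 1 + sumD T.val ≤ 4 := by
    obtain ⟨c, hc⟩ := hev1
    have hj3 : j < 3 := by
      by_contra h
      have : 2 ^ 3 ≤ 2 ^ j := Nat.pow_le_pow_right two_pos (not_lt.1 h)
      omega
    interval_cases j <;> omega
  have hTmem : ∀ t ∈ T, t ∈ (Finset.Icc 1 4) ×ˢ (Finset.univ : Finset Bool) := fun t ht => by
    have h4 : t.1 ≤ sumD T.val := Multiset.le_sum_of_mem (Multiset.mem_map_of_mem _ ht)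
    obtain ⟨r, hr, rfl⟩ := Finset.mem_image.1 ht
    exact Finset.mem_product.2 ⟨Finset.mem_Icc.2 ⟨(hret r hr).1, by omega⟩, Finset.mem_univ _⟩
  have hqe : Even q := by rw [hq]; exact (Nat.even_pow' f.pos.ne').2 even_two
  obtain ⟨l, hl1, hlf, hcov⟩ : ∃ l : Multiset Typ, (∀ t ∈ l, 1 ≤ t.1) ∧ Fits (j + 1) l ∧
      ∀ t ∈ T, val q t ∣ expo q l := by
    rcases table T (Finset.mem_powerset.2 hTmem) (j + 1) (Finset.mem_range.2 (by omega)) hj.2 with h | ⟨l, -, h1, h2, h3⟩
    · exact ⟨T.val, fun t ht => (Finset.mem_Icc.1 (Finset.mem_product.1 (hTmem t ht)).1).1, h,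
        fun t ht => Multiset.dvd_lcm (Multiset.mem_map_of_mem _ ht)⟩
    · exact ⟨l, h2, h1, fun t ht => dvd_expo_of_covL hqe hq1 (h3 t ht)⟩
  refine ⟨j + 1, l, hj.1, hl1, hlf, ?_⟩
  have hroot : ∀ r ∈ S, r ^ expo q l = algebraMap F (AlgebraicClosure F) 1 := fun r hr => by
    rw [map_one]
    by_cases h1 : r = 1
    · rw [h1, one_pow]
    · have hrD : r ∈ D := Finset.mem_erase.2 ⟨h1, Multiset.mem_toFinset.2 hr⟩
      obtain ⟨c, hc⟩ := hcov _ (Finset.mem_image_of_mem _ hrD)
      rw [hc, pow_mul, pow_val_typ hq1 (hD1 r hrD).1 (hret r hrD), one_pow]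
  have hkill := ClassOrder1.pow_eq_of_roots 2 A (expo q l) 3 1 hroot fun r => (Multiset.count_le_card r _).trans (by rw [← hS, hScard]; norm_num)
  rw [one_pow, map_one] at hkill
  have hod : o ∣ expo q l := by
    have h1 : o ∣ expo q l * 2 ^ 3 := (hn ▸ Dvd.intro_left _ rfl : o ∣ orderOf A).trans
      (orderOf_dvd_of_pow_eq_one hkill)
    exact (Nat.Coprime.pow_right 3 (Nat.coprime_two_right.2 ho)).dvd_of_dvd_mul_right h1
  rw [hn, ← mul_assoc, ← pow_succ']
  exact (Nat.Coprime.pow_left (j + 1) (Nat.coprime_two_left.2 ho)).mul_dvd_of_dvd_of_dvd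
    (Nat.dvd_lcm_left _ _) (hod.trans (Nat.dvd_lcm_right _ _))

end Cfsg.Agent.Iso52
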