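import Cfsg.Agent.Iso52.Bound
import Cfsg.Agent.Lib.UnitaryOrthogonal.Involution

/-!
Isometries of the elliptic form of dimension eight whose order doubles in a semidirect product with the natural
module (helper52).
-/

set_option autoImplicit false

namespace Cfsg.Agent.Iso52

variable {F : Type*} [Field F]

/-- `Q` is a form of the given type and half dimension. -/
def Std {V : Type*} [AddCommGroup V] [Module F V] (ζ : F) (minus : Bool) (n : ℕ) (Q : V → F) : Prop :=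
  if minus then 1 ≤ n ∧ ∃ e : V ≃ₗ[F] ((Fin (n - 1) ⊕ Fin (n - 1)) ⊕ Fin 2 → F), ∀ v, mForm F (n - 1) ζ (e v) = Q v
  else ∃ e : V ≃ₗ[F] (Fin n ⊕ Fin n → F), ∀ v, pForm F n (e v) = Q v

/-- A unipotent block: `u` of order dividing `2^(k-1)` with non-zero norm; for `k = 3` also a transvection. -/
def Blk {V : Type*} [AddCommGroup V] [Module F V] (Q : V → F) (k : ℕ) : Prop :=
  ∃ (u : V ≃ₗ[F] V) (v : V), (∀ w, Q (u w) = Q w) ∧ u ^ 2 ^ (k - 1) = 1 ∧
    (∑ i ∈ Finset.range (2 ^ (k - 1)), (u ^ i) v) ≠ 0 ∧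
    ((∃ s : V ≃ₗ[F] V, (∀ w, Q (s w) = Q w) ∧ u = s ^ 2) ∨
      ∃ x : V ≃ₗ[F] V, (∀ w, Q (x w) = Q w) ∧ x ^ 2 = 1 ∧ Commute u x ∧ x v = v ∧ x ≠ 1 ∧
        2 ≤ k ∧ ∃ c : V, ∀ w, ∃ z : F, x w = w + z • c)

variable [CharP F 2]

section Sums

variable {V W : Type*} [AddCommGroup V] [Module F V] [AddCommGroup W] [Module F W]

theorem Std.prod {ζ : F} {a b : Bool} {n m : ℕ} {Q : V → F} {R : W → F} (h : Std ζ a n Q) (h' : Std ζ b m R) :
    Std ζ (xor a b) (n + m) (fun p : V × W => Q p.1 + R p.2) := by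
  cases a <;> cases b <;> simp only [Std, Bool.false_eq_true, if_false, if_true, Bool.false_xor,
    Bool.xor_false, Bool.true_xor, Bool.not_true] at h h' ⊢
  · obtain ⟨e, he⟩ := h
    obtain ⟨e', he'⟩ := h'
    refine ⟨(e.prodCongr e').trans (KS58.SpEl.splitVec n m F).symm, fun p => ?_⟩
    rw [pForm_split, LinearEquiv.trans_apply, LinearEquiv.apply_symm_apply, LinearEquiv.prodCongr_apply, he, he']
  · obtain ⟨e, he⟩ := h
    obtain ⟨hm, e', he'⟩ := h'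
    refine ⟨by omega, ?_⟩
    rw [show n + m - 1 = n + (m - 1) by omega]
    refine ⟨(e.prodCongr e').trans (joinPM n (m - 1)), fun p => ?_⟩
    rw [mForm_eq, joinPM]
    simp only [LinearEquiv.trans_apply, LinearEquiv.apply_symm_apply, LinearEquiv.prodCongr_apply,
      LinearEquiv.refl_apply]
    rw [pForm_split, LinearEquiv.apply_symm_apply, ← he, ← he', mForm_eq]
    exact add_assoc _ _ _
  · obtain ⟨hn, e, he⟩ := h
    obtain ⟨e', he'⟩ := h'
    refine ⟨by omega, ?_⟩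
    rw [show n + m - 1 = m + (n - 1) by omega]
    refine ⟨((LinearEquiv.prodComm F V W).trans (e'.prodCongr e)).trans (joinPM m (n - 1)), fun p => ?_⟩
    rw [mForm_eq, joinPM]
    simp only [LinearEquiv.trans_apply, LinearEquiv.apply_symm_apply, LinearEquiv.prodCongr_apply,
      LinearEquiv.refl_apply, LinearEquiv.prodComm_apply, Prod.swap]
    rw [pForm_split, LinearEquiv.apply_symm_apply, ← he, ← he', mForm_eq]
    exact (add_assoc _ _ _).trans (add_comm _ _)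
  · obtain ⟨hn, e, he⟩ := h
    obtain ⟨hm, e', he'⟩ := h'
    rw [show n + m = (n - 1) + (m - 1) + 2 by omega]
    refine ⟨(e.prodCongr e').trans (joinMM (n - 1) (m - 1) ζ), fun p => ?_⟩
    rw [pForm_split (a := n - 1 + (m - 1)), joinMM]
    simp only [LinearEquiv.trans_apply, LinearEquiv.apply_symm_apply, LinearEquiv.prodCongr_apply,
      LinearEquiv.prodProdProdComm_apply]
    rw [pForm_split, LinearEquiv.apply_symm_apply, twoPlanes_form, ← he, ← he', mForm_eq, mForm_eq]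
    exact add_add_add_comm _ _ _ _

end Sums

theorem std_pForm (ζ : F) (n : ℕ) : Std ζ false n (pForm F n) := ⟨LinearEquiv.refl F _, fun _ => rfl⟩

/-- The forms `mForm F k ζ'` for `ζ' ∈ {0, ζ}` realise both types. -/
theorem exists_std_mForm (ζ : F) (k : ℕ) (a : Bool) : ∃ ζ', Std ζ a (k + 1) (mForm F k ζ') := by
  cases a
  · refine ⟨0, (splitM k).trans (((LinearEquiv.refl F _).prodCongr zeroParam).trans
      (KS58.SpEl.splitVec k 1 F).symm), fun v => ?_⟩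
    rw [mForm_eq, pForm_split]
    simp only [LinearEquiv.trans_apply, LinearEquiv.apply_symm_apply, LinearEquiv.prodCongr_apply,
      LinearEquiv.refl_apply]
    congr 1
    simp [pForm, Cfsg.quadFormPlus, zeroParam, bin]
    ring
  · exact ⟨ζ, by omega, LinearEquiv.refl F _, fun _ => rfl⟩

theorem exists_equiv_of_end {V : Type*} [AddCommGroup V] [Module F V] (f : Module.End F V) {N : ℕ} (hN : 0 < N)
    (hord : orderOf f = N) : ∃ g : V ≃ₗ[F] V, (∀ v, g v = f v) ∧ orderOf g = N ∧ ∀ i v, (g ^ i) v = (f ^ i) v := by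
  obtain ⟨u, hu⟩ := IsUnit.of_pow_eq_one (hord ▸ pow_orderOf_eq_one f) hN.ne'
  refine ⟨LinearMap.GeneralLinearGroup.generalLinearEquiv F V u, fun v => ?_, ?_, fun i v => ?_⟩
  · show (u : Module.End F V) v = f v
    rw [hu]
  · rw [MulEquiv.orderOf_eq, ← hord, ← hu, orderOf_units]
  · rw [← map_pow]
    show ((u ^ i : (Module.End F V)ˣ) : Module.End F V) v = _
    rw [Units.val_pow_eq_pow_val, hu]

set_option linter.unusedTactic false in
set_option linter.unreachableTactic false in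
/-- Blocks of both types. -/
theorem exists_blk (ζ : F) (a : Bool) {k : ℕ} (hk : 1 ≤ k) (hk3 : k ≤ 3) :
    (∃ ζ' : F, k = 1 ∧ Std ζ a k (mForm F 0 ζ') ∧ Blk (mForm F 0 ζ') k) ∨
    (∃ ζ' : F, k = 2 ∧ Std ζ a k (mForm F 1 ζ') ∧ Blk (mForm F 1 ζ') k) ∨
    (∃ ζ' : F, k = 3 ∧
      Std ζ a k (fun p : ((Fin 1 ⊕ Fin 1) ⊕ Fin 2 → F) × ((Fin 0 ⊕ Fin 0) ⊕ Fin 2 → F) =>
        mForm F 1 ζ' p.1 + mForm F 0 ζ p.2) ∧
      Blk (fun p : ((Fin 1 ⊕ Fin 1) ⊕ Fin 2 → F) × ((Fin 0 ⊕ Fin 0) ⊕ Fin 2 → F) =>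
        mForm F 1 ζ' p.1 + mForm F 0 ζ p.2) k) := by
  interval_cases k
  · obtain ⟨ζ', h⟩ := exists_std_mForm ζ 0 a
    refine Or.inl ⟨ζ', rfl, h, 1, Pi.single (Sum.inr 0) 1, fun _ => rfl, one_pow _, ?_,
      Or.inl ⟨1, fun _ => rfl, (one_pow 2).symm⟩⟩
    intro h
    have := congrFun h (Sum.inr 0)
    simp at this
  · obtain ⟨ζ', h⟩ := exists_std_mForm ζ 1 a
    obtain ⟨s, hs, hso, hsp⟩ := exists_equiv_of_end (u2 ζ') (by norm_num) (u2_order ζ')
    have hsQ : ∀ w, mForm F 1 ζ' (s w) = mForm F 1 ζ' w := fun w => by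
      rw [hs]; simp [u2, mForm, Cfsg.quadFormMinus]; grind
    refine Or.inr (Or.inl ⟨ζ', rfl, h, s ^ 2, Pi.single (Sum.inl (Sum.inr 0)) 1, fun w => ?_, ?_, ?_,
      Or.inl ⟨s, hsQ, rfl⟩⟩)
    · rw [pow_two, LinearEquiv.mul_apply, hsQ, hsQ]
    · rw [← pow_mul, show 2 * 2 ^ (2 - 1) = orderOf s by rw [hso]; norm_num]
      exact pow_orderOf_eq_one s
    · intro h
      have := congrFun h (Sum.inr 0)
      simp [Finset.sum_range_succ, hsp, ← pow_mul, pow_succ, u2] at this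
      rw [hs, hs] at this
      simp [u2] at this
      all_goals grind
  · obtain ⟨ζ', h⟩ := exists_std_mForm ζ 1 (!a)
    obtain ⟨s, hs, hso, hsp⟩ := exists_equiv_of_end (u2 ζ') (by norm_num) (u2_order ζ')
    obtain ⟨x, hx, hxo, -⟩ := exists_equiv_of_end (u1 ζ) (by norm_num) (u1_order ζ)
    have hsQ : ∀ w, mForm F 1 ζ' (s w) = mForm F 1 ζ' w := fun w => by
      rw [hs]; simp [u2, mForm, Cfsg.quadFormMinus]; grind
    have hxQ : ∀ w, mForm F 0 ζ (x w) = mForm F 0 ζ w := fun w => by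
      rw [hx]; simp [u1, mForm, Cfsg.quadFormMinus]; grind
    have hstd := h.prod (show Std ζ true 1 (mForm F 0 ζ) from ⟨le_rfl, LinearEquiv.refl F _, fun _ => rfl⟩)
    rw [show xor (!a) true = a by cases a <;> rfl] at hstd
    refine Or.inr (Or.inr ⟨ζ', rfl, hstd, prodHom (s, 1), (Pi.single (Sum.inl (Sum.inr 0)) 1, 0),
      fun p => ?_, ?_, ?_, Or.inr ⟨prodHom (1, x), fun p => ?_, ?_, ?_, ?_, ?_, by norm_num,
        (0, Pi.single (Sum.inr 0) 1), fun p => ⟨p.2 (Sum.inr 1), ?_⟩⟩⟩)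
    · show mForm F 1 ζ' (s p.1) + mForm F 0 ζ p.2 = _
      rw [hsQ]
    · rw [← map_pow, Prod.pow_mk, one_pow, show 2 ^ (3 - 1) = 4 from rfl, ← hso, pow_orderOf_eq_one]
      exact map_one _
    · intro h
      have h2 := congrArg Prod.fst h
      simp only [Prod.fst_sum, Prod.fst_zero, ← map_pow, Prod.pow_mk, one_pow] at h2
      have h3 : (∑ i ∈ Finset.range 4, (s ^ i) (Pi.single (Sum.inl (Sum.inr 0)) 1)) = 0 := h2
      have := congrFun h3 (Sum.inl (Sum.inl 0))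
      simp [Finset.sum_range_succ, hsp, pow_succ, u2] at this
      all_goals grind
    · show mForm F 1 ζ' p.1 + mForm F 0 ζ (x p.2) = _
      rw [hxQ]
    · rw [← map_pow, Prod.pow_mk, one_pow, show x ^ 2 = 1 by have := pow_orderOf_eq_one x; rwa [hxo] at this]
      exact map_one _
    · exact (((Commute.one_right s).prod (Commute.one_left x))).map prodHom
    · show ((Pi.single (Sum.inl (Sum.inr 0)) 1 : ((Fin 1 ⊕ Fin 1) ⊕ Fin 2 → F)), x 0) = _
      rw [map_zero]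
    · intro h
      have h2 := congrArg Prod.snd (LinearEquiv.congr_fun h
        ((0 : (Fin 1 ⊕ Fin 1) ⊕ Fin 2 → F), Pi.single (Sum.inr 1) 1))
      have h3 : x (Pi.single (Sum.inr 1) 1) = Pi.single (Sum.inr 1) 1 := h2
      rw [hx] at h3
      have := congrFun h3 (Sum.inr 0)
      simp [u1] at this
    · refine Prod.ext (by simp [prodHom]) ?_
      show x p.2 = p.2 + p.2 (Sum.inr 1) • Pi.single (Sum.inr 0) 1
      rw [hx]
      funext i
      rcases i with (i | i) | i <;> fin_cases i <;> simp [u1]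

/-- Elements of the eight-dimensional elliptic space for an order that doubles. -/
theorem exists_ext_data [Fintype F] {ζ : F} (hζ : ∀ t : F, t ^ 2 + t + ζ ≠ 0) {k : ℕ} (l : Multiset Typ)
    (hl : ∀ t ∈ l, 1 ≤ t.1) (hk1 : 1 ≤ k) (hk : k ≤ 3) (h : Fits k l) :
    ∃ (u t : ((Fin 3 ⊕ Fin 3) ⊕ Fin 2 → F) ≃ₗ[F] ((Fin 3 ⊕ Fin 3) ⊕ Fin 2 → F))
      (v : (Fin 3 ⊕ Fin 3) ⊕ Fin 2 → F),
      (∀ w, mForm F 3 ζ (u w) = mForm F 3 ζ w) ∧ (∀ w, mForm F 3 ζ (t w) = mForm F 3 ζ w) ∧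
      u ^ 2 ^ (k - 1) = 1 ∧ t ^ expo (Fintype.card F) l = 1 ∧ expo (Fintype.card F) l ∣ orderOf t ∧
      Commute u t ∧ t v = v ∧ (∑ i ∈ Finset.range (2 ^ (k - 1)), (u ^ i) v) ≠ 0 ∧
      ((∃ s : ((Fin 3 ⊕ Fin 3) ⊕ Fin 2 → F) ≃ₗ[F] ((Fin 3 ⊕ Fin 3) ⊕ Fin 2 → F),
          (∀ w, mForm F 3 ζ (s w) = mForm F 3 ζ w) ∧ u = s ^ 2) ∨
        ∃ x : ((Fin 3 ⊕ Fin 3) ⊕ Fin 2 → F) ≃ₗ[F] ((Fin 3 ⊕ Fin 3) ⊕ Fin 2 → F),
          (∀ w, mForm F 3 ζ (x w) = mForm F 3 ζ w) ∧ x ^ 2 = 1 ∧ Commute u x ∧ Commute x t ∧ x v = v ∧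
          x ≠ 1 ∧ 2 ≤ k ∧ ∃ c, ∀ w, ∃ z : F, x w = w + z • c) := by
  obtain ⟨hsum, -⟩ := h
  -- the torus part
  obtain ⟨b, hT⟩ : ∃ b, EPiece ζ b (4 - k) (expo (Fintype.card F) l) := by
    have h2 := (epiece_tori hζ l hl).add (epiece_one (ζ := ζ) false (n := 4 - (k + sumD l)) (by simp))
    rw [show sumD l + (4 - (k + sumD l)) = 4 - k by omega, Nat.lcm_one_right] at h2
    exact ⟨_, h2⟩
  -- assemble
  suffices key : ∀ (V W : Type _) [AddCommGroup V] [Module F V] [AddCommGroup W] [Module F W] (Q : V → F)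
      (R : W → F), Std ζ (!b) k Q → Blk Q k → Std ζ b (4 - k) R → HasElt R (expo (Fintype.card F) l) →
      ∃ (u t : ((Fin 3 ⊕ Fin 3) ⊕ Fin 2 → F) ≃ₗ[F] ((Fin 3 ⊕ Fin 3) ⊕ Fin 2 → F))
      (v : (Fin 3 ⊕ Fin 3) ⊕ Fin 2 → F),
      (∀ w, mForm F 3 ζ (u w) = mForm F 3 ζ w) ∧ (∀ w, mForm F 3 ζ (t w) = mForm F 3 ζ w) ∧
      u ^ 2 ^ (k - 1) = 1 ∧ t ^ expo (Fintype.card F) l = 1 ∧ expo (Fintype.card F) l ∣ orderOf t ∧
      Commute u t ∧ t v = v ∧ (∑ i ∈ Finset.range (2 ^ (k - 1)), (u ^ i) v) ≠ 0 ∧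
      ((∃ s : ((Fin 3 ⊕ Fin 3) ⊕ Fin 2 → F) ≃ₗ[F] ((Fin 3 ⊕ Fin 3) ⊕ Fin 2 → F),
          (∀ w, mForm F 3 ζ (s w) = mForm F 3 ζ w) ∧ u = s ^ 2) ∨
        ∃ x : ((Fin 3 ⊕ Fin 3) ⊕ Fin 2 → F) ≃ₗ[F] ((Fin 3 ⊕ Fin 3) ⊕ Fin 2 → F),
          (∀ w, mForm F 3 ζ (x w) = mForm F 3 ζ w) ∧ x ^ 2 = 1 ∧ Commute u x ∧ Commute x t ∧ x v = v ∧
          x ≠ 1 ∧ 2 ≤ k ∧ ∃ c, ∀ w, ∃ z : F, x w = w + z • c) by
    have hR : ∀ b' : Bool, b' = b → Std ζ b (4 - k) (pForm F (4 - k)) ∧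
        HasElt (pForm F (4 - k)) (expo (Fintype.card F) l) ∨
        Std ζ b (4 - k) (mForm F (4 - k - 1) ζ) ∧ HasElt (mForm F (4 - k - 1) ζ) (expo (Fintype.card F) l) := by
      intro b' hb
      cases b <;> simp only [EPiece, Bool.false_eq_true, if_false, if_true] at hT
      · exact Or.inl ⟨std_pForm ζ _, hT⟩
      · exact Or.inr ⟨⟨hT.1, LinearEquiv.refl F _, fun _ => rfl⟩, hT.2⟩
    rcases hR b rfl with ⟨hs, he⟩ | ⟨hs, he⟩ <;>
      rcases exists_blk ζ (!b) hk1 hk with ⟨ζ', -, h1, h2⟩ | ⟨ζ', -, h1, h2⟩ | ⟨ζ', -, h1, h2⟩ <;>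
      exact key _ _ _ _ h1 h2 hs he
  intro V W _ _ _ _ Q R hQ hblk hR helt
  have hs := hQ.prod hR
  rw [Bool.not_xor_self, show k + (4 - k) = 4 by omega] at hs
  simp only [Std, if_true] at hs
  obtain ⟨-, e, he⟩ := hs
  obtain ⟨u, v, huQ, hu, hsumv, hcase⟩ := hblk
  obtain ⟨g, hgQ, hg⟩ := helt
  set M := expo (Fintype.card F) l
  have hg0 : 0 < orderOf g := by
    haveI : Module.Finite F (V × W) := Module.Finite.equiv e.symm
    haveI : Module.Finite F W := Module.Finite.of_surjective (LinearMap.snd F V W) Prod.snd_surjective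
    haveI : Finite W := Module.finite_of_finite F
    haveI : Finite (W ≃ₗ[F] W) := Finite.of_injective _ DFunLike.coe_injective
    exact orderOf_pos g
  have hgM : orderOf (g ^ (orderOf g / M)) = M := orderOf_pow_orderOf_div hg0.ne' hg
  have hinvQ : ∀ n w, R ((g ^ n) w) = R w := fun n => by
    induction n with
    | zero => simp
    | succ n ih => intro w; rw [pow_succ, LinearEquiv.mul_apply, ih, hgQ]
  let ψ : (V ≃ₗ[F] V) × (W ≃ₗ[F] W) →* _ := (conjHom e).comp prodHom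
  have hψi : Function.Injective ψ := (conjHom_injective e).comp prodHom_injective
  have hψ : ∀ p : (V ≃ₗ[F] V) × (W ≃ₗ[F] W), (∀ a, Q (p.1 a) = Q a) → (∀ a, R (p.2 a) = R a) →
      ∀ w, mForm F 3 ζ (ψ p w) = mForm F 3 ζ w := by
    intro p h1 h2 w
    obtain ⟨w, rfl⟩ := e.surjective w
    show mForm F 3 ζ (e ((prodHom p) (e.symm (e w)))) = _
    rw [LinearEquiv.symm_apply_apply]
    exact (he _).trans ((congrArg₂ (· + ·) (h1 w.1) (h2 w.2)).trans (he w).symm)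
  have happ : ∀ (p : (V ≃ₗ[F] V) × (W ≃ₗ[F] W)), ψ p (e (v, 0)) = e (p.1 v, p.2 0) := fun p => by
    show e ((prodHom p) (e.symm (e (v, 0)))) = _
    rw [LinearEquiv.symm_apply_apply]
    rfl
  refine ⟨ψ (u, 1), ψ (1, g ^ (orderOf g / M)), e (v, 0), hψ _ huQ (fun _ => rfl),
    hψ _ (fun _ => rfl) (hinvQ _), ?_, ?_, ?_, ?_, ?_, ?_, ?_⟩
  · rw [← map_pow, Prod.pow_mk, hu, one_pow]; exact map_one ψ
  · have hp := pow_orderOf_eq_one (g ^ (orderOf g / M))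
    rw [hgM] at hp
    rw [← map_pow, Prod.pow_mk, one_pow, hp]
    exact map_one ψ
  · rw [orderOf_injective ψ hψi, Prod.orderOf, orderOf_one, Nat.lcm_one_left, hgM]
  · exact ((Commute.one_right u).prod (Commute.one_left _)).map ψ
  · rw [happ, map_zero]; rfl
  · intro h
    apply hsumv
    have hi : ∀ i, ((ψ (u, 1)) ^ i) (e (v, 0)) = e ((u ^ i) v, 0) := fun i => by
      rw [← map_pow, happ, Prod.pow_fst, Prod.pow_snd, one_pow]
      rfl
    simp only [hi, ← map_sum] at h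
    have h2 := congrArg Prod.fst ((LinearEquiv.map_eq_zero_iff e).1 h)
    rw [Prod.fst_sum] at h2
    simpa using h2
  · rcases hcase with ⟨s, hsQ, hs2⟩ | ⟨x, hxQ, hx2, hcomm, hxv, hx1, hk2, c, hc⟩
    · exact Or.inl ⟨ψ (s, 1), hψ _ hsQ (fun _ => rfl), by rw [← map_pow, Prod.pow_mk, ← hs2, one_pow]⟩
    · refine Or.inr ⟨ψ (x, 1), hψ _ hxQ (fun _ => rfl), by rw [← map_pow, Prod.pow_mk, hx2, one_pow]; exact map_one ψ,
        ((hcomm.prod (Commute.one_left 1))).map ψ, ((Commute.one_right x).prod (Commute.one_left _)).map ψ,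
        by rw [happ, hxv]; rfl, fun h => hx1 ?_, hk2, e (c, 0), fun w => ?_⟩
      · exact congrArg Prod.fst (hψi (h.trans (map_one ψ).symm) : ((x, 1) : (V ≃ₗ[F] V) × (W ≃ₗ[F] W)) = 1)
      · obtain ⟨w, rfl⟩ := e.surjective w
        obtain ⟨z, hz⟩ := hc w.1
        refine ⟨z, ?_⟩
        show e ((prodHom (x, (1 : W ≃ₗ[F] W))) (e.symm (e w))) = _
        rw [LinearEquiv.symm_apply_apply, ← map_smul, ← map_add]
        exact congrArg e (Prod.ext hz (by simp [prodHom]))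

end Cfsg.Agent.Iso52
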