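import Cfsg.Agent.Forms59.Elliptic2
import Cfsg.Agent.KnownSimple58.SpElements

/-!
Element orders of quadratic spaces and their behaviour under orthogonal sums (helper52).
-/

set_option autoImplicit false

namespace Cfsg.Agent.Iso52

open Cfsg.Agent.KS58

variable {F : Type*} [Field F]

/-- Some isometry of `Q` has order divisible by `N`. -/
def HasElt {V : Type*} [AddCommGroup V] [Module F V] (Q : V → F) (N : ℕ) : Prop :=
  ∃ g : V ≃ₗ[F] V, (∀ v, Q (g v) = Q v) ∧ N ∣ orderOf g

section General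

variable {V W : Type*} [AddCommGroup V] [Module F V] [AddCommGroup W] [Module F W]

set_option linter.unreachableTactic false
set_option linter.unusedTactic false

/-- Conjugation by a linear equivalence. -/
def conjHom (e : V ≃ₗ[F] W) : (V ≃ₗ[F] V) →* (W ≃ₗ[F] W) where
  toFun g := e.symm.trans (g.trans e)
  map_one' := by ext w; simp
  map_mul' g h := by ext w; simp

theorem conjHom_apply (e : V ≃ₗ[F] W) (g : V ≃ₗ[F] V) (w : W) : conjHom e g w = e (g (e.symm w)) := rfl

theorem conjHom_injective (e : V ≃ₗ[F] W) : Function.Injective (conjHom e) := fun g h hgh =>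
  LinearEquiv.ext fun v => e.injective (by
    simpa [conjHom_apply] using DFunLike.congr_fun hgh (e v))

theorem HasElt.of_equiv {Q : V → F} {Q' : W → F} {N : ℕ} (e : V ≃ₗ[F] W) (hQ : ∀ v, Q' (e v) = Q v)
    (h : HasElt Q N) : HasElt Q' N := by
  obtain ⟨g, hg, hN⟩ := h
  refine ⟨conjHom e g, fun w => ?_, by rwa [orderOf_injective _ (conjHom_injective e)]⟩
  rw [conjHom_apply, hQ, hg, ← hQ (e.symm w), LinearEquiv.apply_symm_apply]

/-- Block sums. -/
def prodHom : (V ≃ₗ[F] V) × (W ≃ₗ[F] W) →* ((V × W) ≃ₗ[F] (V × W)) where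
  toFun p := p.1.prodCongr p.2
  map_one' := LinearEquiv.ext fun _ => rfl
  map_mul' _ _ := LinearEquiv.ext fun _ => rfl

theorem prodHom_injective : Function.Injective (prodHom : (V ≃ₗ[F] V) × (W ≃ₗ[F] W) →* _) := fun _ _ h =>
  Prod.ext (LinearEquiv.ext fun v => congrArg Prod.fst (DFunLike.congr_fun h (v, (0 : W))))
    (LinearEquiv.ext fun w => congrArg Prod.snd (DFunLike.congr_fun h ((0 : V), w)))

theorem HasElt.prod {Q : V → F} {R : W → F} {M N : ℕ} (h : HasElt Q M) (h' : HasElt R N) :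
    HasElt (fun p : V × W => Q p.1 + R p.2) (Nat.lcm M N) := by
  obtain ⟨g, hg, hM⟩ := h
  obtain ⟨g', hg', hN⟩ := h'
  refine ⟨prodHom (g, g'), fun p => ?_, ?_⟩
  · show Q (g p.1) + R (g' p.2) = Q p.1 + R p.2
    rw [hg, hg']
  · rw [orderOf_injective _ prodHom_injective, Prod.orderOf]
    exact Nat.lcm_dvd (hM.trans (Nat.dvd_lcm_left _ _)) (hN.trans (Nat.dvd_lcm_right _ _))

theorem HasElt.one (Q : V → F) : HasElt Q 1 := ⟨1, fun _ => rfl, one_dvd _⟩

theorem HasElt.mono {Q : V → F} {M N : ℕ} (hMN : M ∣ N) (h : HasElt Q N) : HasElt Q M := by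
  obtain ⟨g, hg, hN⟩ := h
  exact ⟨g, hg, hMN.trans hN⟩

/-- An endomorphism of finite order as an element. -/
theorem HasElt.of_end {Q : V → F} (f : Module.End F V) {N : ℕ} (hN : 0 < N) (hord : orderOf f = N)
    (hQ : ∀ v, Q (f v) = Q v) : HasElt Q N := by
  obtain ⟨u, hu⟩ := IsUnit.of_pow_eq_one (hord ▸ pow_orderOf_eq_one f) hN.ne'
  refine ⟨LinearMap.GeneralLinearGroup.generalLinearEquiv F V u, fun v => ?_, ?_⟩
  · show Q ((u : Module.End F V) v) = Q v
    rw [hu]; exact hQ v
  · rw [MulEquiv.orderOf_eq, ← hord, ← hu, orderOf_units]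

end General

section Sums

variable (F) in
/-- The form of minus type with parameter `ζ` (of plus type when `ζ = 0`). -/
abbrev mForm (k : ℕ) (ζ : F) : ((Fin k ⊕ Fin k) ⊕ Fin 2 → F) → F := Cfsg.quadFormMinus k F 1 ζ

variable (F) in
abbrev pForm (k : ℕ) : (Fin k ⊕ Fin k → F) → F := Cfsg.quadFormPlus k F

/-- The binary part. -/
def bin (ζ : F) (z : Fin 2 → F) : F := z 0 ^ 2 + 1 * z 0 * z 1 + ζ * z 1 ^ 2

theorem pForm_split {a b : ℕ} (v : Fin (a + b) ⊕ Fin (a + b) → F) :
    pForm F (a + b) v = pForm F a (SpEl.splitVec a b F v).1 + pForm F b (SpEl.splitVec a b F v).2 := by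
  simp only [pForm, Cfsg.quadFormPlus, Fin.sum_univ_add]
  rfl

/-- The split part and the binary part. -/
abbrev splitM (k : ℕ) : ((Fin k ⊕ Fin k) ⊕ Fin 2 → F) ≃ₗ[F] (Fin k ⊕ Fin k → F) × (Fin 2 → F) :=
  LinearEquiv.sumArrowLequivProdArrow _ _ F F

theorem mForm_eq (k : ℕ) (ζ : F) (v : (Fin k ⊕ Fin k) ⊕ Fin 2 → F) :
    mForm F k ζ v = pForm F k (splitM k v).1 + bin ζ (splitM k v).2 := rfl

theorem hasElt_pp {a b M N : ℕ} (h : HasElt (pForm F a) M) (h' : HasElt (pForm F b) N) :
    HasElt (pForm F (a + b)) (Nat.lcm M N) :=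
  (h.prod h').of_equiv (SpEl.splitVec a b F).symm fun p => by
    rw [pForm_split, LinearEquiv.apply_symm_apply]

/-- Reindexing a split part in front of an elliptic form. -/
def joinPM (a b : ℕ) : ((Fin a ⊕ Fin a → F) × ((Fin b ⊕ Fin b) ⊕ Fin 2 → F)) ≃ₗ[F]
    ((Fin (a + b) ⊕ Fin (a + b)) ⊕ Fin 2 → F) :=
  ((LinearEquiv.refl F _).prodCongr (splitM b)).trans
    (((LinearEquiv.prodAssoc F _ _ _).symm.trans
      ((SpEl.splitVec a b F).symm.prodCongr (LinearEquiv.refl F _))).trans (splitM (a + b)).symm)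

theorem hasElt_pm {a b M N : ℕ} {ζ : F} (h : HasElt (pForm F a) M) (h' : HasElt (mForm F b ζ) N) :
    HasElt (mForm F (a + b) ζ) (Nat.lcm M N) :=
  (h.prod h').of_equiv (joinPM a b) fun p => by
    rw [mForm_eq, mForm_eq, joinPM]
    simp only [LinearEquiv.trans_apply, LinearEquiv.apply_symm_apply, LinearEquiv.prodCongr_apply,
      LinearEquiv.refl_apply]
    rw [pForm_split, LinearEquiv.apply_symm_apply]
    exact add_assoc _ _ _

variable [CharP F 2]

/-- Two anisotropic planes with the same parameter form two hyperbolic planes. -/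
def twoPlanes (ζ : F) : ((Fin 2 → F) × (Fin 2 → F)) ≃ₗ[F] (Fin 2 ⊕ Fin 2 → F) where
  toFun p := Sum.elim ![p.1 0 + p.2 0, p.1 1 + p.2 1]
    ![p.1 0 + p.2 0 + (p.1 1 + p.2 1) + p.1 1, ζ * (p.1 1 + p.2 1) + p.1 0]
  map_add' p r := by
    funext i
    rcases i with i | i <;> fin_cases i <;> simp <;> ring
  map_smul' c p := by
    funext i
    rcases i with i | i <;> fin_cases i <;> simp <;> ring
  invFun u :=
    let z := u (.inr 1) - ζ * u (.inl 1)
    let w := u (.inr 0) - u (.inl 0) - u (.inl 1)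
    (![z, w], ![u (.inl 0) - z, u (.inl 1) - w])
  left_inv p := by
    refine Prod.ext ?_ ?_ <;> funext i <;> fin_cases i <;> simp <;> ring
  right_inv u := by
    funext i
    rcases i with i | i <;> fin_cases i <;> simp <;> ring

theorem twoPlanes_form (ζ : F) (p : (Fin 2 → F) × (Fin 2 → F)) :
    pForm F 2 (twoPlanes ζ p) = bin ζ p.1 + bin ζ p.2 := by
  simp only [pForm, Cfsg.quadFormPlus, twoPlanes, Fin.sum_univ_two, bin]
  simp
  linear_combination (p.1 1 * p.2 0 + p.1 1 * p.1 0 + p.1 0 * p.2 0 + ζ * p.1 1 * p.2 1 +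
    p.1 0 * p.2 1) * (CharTwo.two_eq_zero (R := F))

/-- Two elliptic forms make a split form. -/
def joinMM (a b : ℕ) (ζ : F) :
    (((Fin a ⊕ Fin a) ⊕ Fin 2 → F) × ((Fin b ⊕ Fin b) ⊕ Fin 2 → F)) ≃ₗ[F]
      (Fin (a + b + 2) ⊕ Fin (a + b + 2) → F) :=
  ((splitM a).prodCongr (splitM b)).trans
    ((LinearEquiv.prodProdProdComm F _ _ _ _).trans
      (((SpEl.splitVec a b F).symm.prodCongr (twoPlanes ζ)).trans (SpEl.splitVec (a + b) 2 F).symm))

theorem hasElt_mm {a b M N : ℕ} {ζ : F} (h : HasElt (mForm F a ζ) M) (h' : HasElt (mForm F b ζ) N) :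
    HasElt (pForm F (a + b + 2)) (Nat.lcm M N) :=
  (h.prod h').of_equiv (joinMM a b ζ) fun p => by
    rw [mForm_eq, mForm_eq, pForm_split (a := a + b), joinMM]
    simp only [LinearEquiv.trans_apply, LinearEquiv.apply_symm_apply, LinearEquiv.prodCongr_apply,
      LinearEquiv.prodProdProdComm_apply]
    rw [pForm_split, LinearEquiv.apply_symm_apply, twoPlanes_form]
    exact add_add_add_comm _ _ _ _

/-- With parameter `0` the form is split. -/
def zeroParam : (Fin 2 → F) ≃ₗ[F] (Fin 1 ⊕ Fin 1 → F) where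
  toFun z := Sum.elim ![z 0] ![z 0 + z 1]
  map_add' p r := by
    funext i
    rcases i with i | i <;> fin_cases i <;> simp <;> ring
  map_smul' c p := by
    funext i
    rcases i with i | i <;> fin_cases i <;> simp <;> ring
  invFun u := ![u (.inl 0), u (.inr 0) - u (.inl 0)]
  left_inv p := by funext i; fin_cases i <;> simp
  right_inv u := by
    funext i
    rcases i with i | i <;> fin_cases i <;> simp

omit [CharP F 2] in
theorem hasElt_of_zero {k N : ℕ} (h : HasElt (mForm F k 0) N) : HasElt (pForm F (k + 1)) N :=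
  h.of_equiv ((splitM k).trans (((LinearEquiv.refl F _).prodCongr zeroParam).trans
      (SpEl.splitVec k 1 F).symm)) fun v => by
    rw [mForm_eq, pForm_split]
    simp only [LinearEquiv.trans_apply, LinearEquiv.apply_symm_apply, LinearEquiv.prodCongr_apply,
      LinearEquiv.refl_apply]
    congr 1
    simp [pForm, Cfsg.quadFormPlus, zeroParam, bin]
    ring

end Sums

end Cfsg.Agent.Iso52
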