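import Cfsg.Agent.Iso52.Forms
import Cfsg.Agent.S0289

/-!
Isometries of orders `q^d - 1` (split forms) and `q^d + 1` (elliptic forms) (helper52).
-/

set_option autoImplicit false

namespace Cfsg.Agent.Iso52

open Matrix Cfsg.Agent.KS58

variable {F : Type*} [Field F] [Fintype F]

omit [Fintype F] in
/-- A general linear group element on both halves of the split form. -/
def glEnd {d : ℕ} (g : GL (Fin d) F) : Module.End F (Fin d ⊕ Fin d → F) where
  toFun v := Sum.elim ((g : Matrix (Fin d) (Fin d) F) *ᵥ (v ∘ Sum.inl))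
    ((((g⁻¹ : GL (Fin d) F) : Matrix (Fin d) (Fin d) F))ᵀ *ᵥ (v ∘ Sum.inr))
  map_add' v w := by
    funext i
    rcases i with i | i <;> simp [Matrix.mulVec, dotProduct, mul_add,
      Finset.sum_add_distrib]
  map_smul' c v := by
    funext i
    rcases i with i | i <;> simp [Matrix.mulVec, dotProduct, Finset.mul_sum, mul_left_comm]

/-- The embedding of the general linear group. -/
def glHom (d : ℕ) : GL (Fin d) F →* Module.End F (Fin d ⊕ Fin d → F) where
  toFun := glEnd
  map_one' := LinearMap.ext fun v => by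
    funext i
    rcases i with i | i <;> simp [glEnd]
  map_mul' g h := LinearMap.ext fun v => by
    funext i
    rcases i with i | i <;> simp [glEnd, Matrix.mulVec_mulVec, _root_.mul_inv_rev, Matrix.transpose_mul]

omit [Fintype F] in
theorem glHom_injective (d : ℕ) : Function.Injective (glHom (F := F) d) := fun g h hgh => by
  refine Units.ext (Matrix.ext_of_mulVec_single fun i => funext fun j => ?_)
  have := congrFun (LinearMap.congr_fun hgh (Sum.elim (Pi.single i 1) 0)) (Sum.inl j)
  change ((g : Matrix (Fin d) (Fin d) F) *ᵥ ((Sum.elim (Pi.single i 1) (0 : Fin d → F)) ∘ Sum.inl)) j =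
    ((h : Matrix (Fin d) (Fin d) F) *ᵥ ((Sum.elim (Pi.single i 1) (0 : Fin d → F)) ∘ Sum.inl)) j at this
  rwa [Sum.elim_comp_inl] at this

theorem hasElt_p_torus {d : ℕ} (hd : 1 ≤ d) : HasElt (pForm F d) (Fintype.card F ^ d - 1) := by
  obtain ⟨g, hg⟩ := exists_gl_order_card_pow_sub_one (F := F) hd le_rfl
  refine HasElt.of_end (glHom d g) ?_ (by rw [orderOf_injective _ (glHom_injective d), hg]) fun v => ?_
  · have : 2 ≤ Fintype.card F := Fintype.one_lt_card
    have := Nat.one_lt_pow (n := d) (by omega) this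
    omega
  · show ((g : Matrix (Fin d) (Fin d) F) *ᵥ (v ∘ Sum.inl)) ⬝ᵥ
      ((((g⁻¹ : GL (Fin d) F) : Matrix (Fin d) (Fin d) F))ᵀ *ᵥ (v ∘ Sum.inr)) = _
    rw [Matrix.mulVec_transpose, dotProduct_comm, ← Matrix.dotProduct_mulVec, Matrix.mulVec_mulVec,
      ← Units.val_mul, inv_mul_cancel, Units.val_one, Matrix.one_mulVec, dotProduct_comm]
    rfl

/-- In an elliptic form of dimension `2d` there is an isometry of order `q^d + 1`. -/
theorem hasElt_m_torus [CharP F 2] (ζ : F) (hζ : ∀ t : F, t ^ 2 + t + ζ ≠ 0) {d : ℕ} (hd : 1 ≤ d) :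
    HasElt (mForm F (d - 1) ζ) (Fintype.card F ^ d + 1) := by
  classical
  haveI : Fact (Nat.Prime 2) := ⟨Nat.prime_two⟩
  haveI : NeZero (2 * d) := ⟨by omega⟩
  let L := FiniteField.Extension F 2 (2 * d)
  haveI : Finite L := Module.finite_of_finite F
  haveI : Fintype L := Fintype.ofFinite L
  have hLd : Module.finrank F L = 2 * d := FiniteField.finrank_extension F 2 (2 * d)
  set q := Fintype.card F with hq
  have hq2 : 2 ≤ q := Fintype.one_lt_card
  have hqd : 2 ≤ q ^ d := hq2.trans (Nat.le_self_pow (by omega) q)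
  have hLcard : Fintype.card L = q ^ d * q ^ d := by
    rw [Module.card_eq_pow_finrank (K := F) (V := L), hLd, two_mul, pow_add]
  let σ : L →ₐ[F] L := (FiniteField.frobeniusAlgHom F L) ^ d
  have hσ : ∀ x, σ x = x ^ q ^ d := fun x => by
    show ((FiniteField.frobeniusAlgHom F L) ^ d) x = _
    rw [AlgHom.coe_pow, FiniteField.coe_frobeniusAlgHom, pow_iterate]
  obtain ⟨w, hw⟩ := IsCyclic.exists_generator (α := Lˣ)
  have hwo : orderOf w = (q ^ d + 1) * (q ^ d - 1) := by
    rw [orderOf_eq_card_of_forall_mem_zpowers hw, Nat.card_eq_fintype_card, Fintype.card_units, hLcard,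
      ← Nat.sq_sub_sq, one_pow, sq]
  have hw1 : (w : L) + σ (w : L) ≠ 0 := by
    intro h
    haveI : CharP L 2 := charP_of_injective_algebraMap (algebraMap F L).injective 2
    have h1 : w ^ (q ^ d - 1) = 1 := by
      refine Units.ext (mul_right_cancel₀ w.ne_zero ?_)
      rw [Units.val_pow_eq_pow_val, ← pow_succ, Nat.sub_add_cancel (by omega), ← hσ,
        Units.val_one, one_mul]
      exact (CharTwo.add_eq_zero.1 h).symm
    have h2 := Nat.le_of_dvd (by omega) (orderOf_dvd_of_pow_eq_one h1)
    rw [hwo] at h2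
    have : 2 * (q ^ d - 1) ≤ (q ^ d + 1) * (q ^ d - 1) := Nat.mul_le_mul_right _ (by omega)
    omega
  obtain ⟨f, hf⟩ : ∃ f : Module.Dual F L, f ((w : L) + σ (w : L)) ≠ 0 := by
    by_contra! hall
    exact hw1 ((Module.forall_dual_apply_eq_zero_iff F _).1 hall)
  let B : LinearMap.BilinMap F L F :=
    LinearMap.mk₂ F (fun x y => f (x * σ y)) (fun x x' y => by rw [add_mul, map_add])
      (fun c x y => by rw [smul_mul_assoc, map_smul]) (fun x y y' => by rw [map_add, mul_add, map_add])
      (fun c x y => by rw [map_smul, mul_smul_comm, map_smul])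
  let Q : QuadraticForm F L := B.toQuadraticMap
  have hQ : ∀ x, Q x = f (x * σ x) := fun x => rfl
  have hσσ : ∀ x, σ (σ x) = x := fun x => by
    rw [hσ, hσ, ← pow_mul, ← hLcard, FiniteField.pow_card]
  have hnd : (QuadraticMap.polarBilin Q).Nondegenerate := by
    have key : ∀ x y, QuadraticMap.polar (⇑Q) x y = f (x * σ y + σ (x * σ y)) := by
      intro x y
      rw [LinearMap.BilinMap.polar_toQuadraticMap]
      show f (x * σ y) + f (y * σ x) = _
      rw [map_add, map_mul σ, hσσ, mul_comm (σ x) y]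
    have hl : ∀ x, (∀ y, QuadraticMap.polar (⇑Q) x y = 0) → x = 0 := by
      intro x hx
      by_contra hx0
      apply hf
      have := hx (σ ((w : L) / x))
      rwa [key, hσσ, mul_div_cancel₀ _ hx0] at this
    exact ⟨fun x hx => hl x hx, fun y hy => hl y fun x => by rw [QuadraticMap.polar_comm]; exact hy x⟩
  -- the isometry of order `q^d + 1`
  set l : Lˣ := w ^ (q ^ d - 1) with hl
  have hlo : orderOf l = q ^ d + 1 := by
    rw [hl, orderOf_pow' w (by omega), hwo, Nat.gcd_eq_right (Dvd.intro_left _ rfl),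
      Nat.mul_div_cancel _ (by omega)]
  have hl1 : (l : L) * σ (l : L) = 1 := by
    rw [hσ, ← pow_succ', ← Units.val_pow_eq_pow_val, ← hlo, pow_orderOf_eq_one, Units.val_one]
  let mulL : L →* Module.End F L := (Algebra.lmul F L).toMonoidHom
  have hmul : Function.Injective mulL := Algebra.lmul_injective
  let φ : Lˣ →* Module.End F L := mulL.comp (Units.coeHom L)
  have hφ : Function.Injective φ := hmul.comp Units.val_injective
  have helt : HasElt (⇑Q) (q ^ d + 1) := HasElt.of_end (φ l) (by omega)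
    (by rw [orderOf_injective _ hφ, hlo]) fun v => by
      show Q ((l : L) * v) = Q v
      rw [hQ, hQ, map_mul σ, mul_mul_mul_comm, hl1, one_mul]
  rcases Forms59.exists_normal_form Q hnd with ⟨k, hk, e, he⟩ | ⟨k, hk, -⟩ | ⟨k, hk, ζ', e, hζ', he⟩
  · exfalso
    obtain rfl : k = d := by omega
    let S : Set L := {x | x ≠ 0 ∧ Q x = 0}
    have hdvd : q ^ k + 1 ∣ Nat.card S := by
      let Z : Subgroup Lˣ := Subgroup.zpowers l
      let S' : Set Lˣ := {x | Q (x : L) = 0}
      have hSS' : Nat.card S = Nat.card S' := (Nat.card_congr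
        { toFun := fun x => ⟨(x.1 : L), x.1.ne_zero, x.2⟩
          invFun := fun x => ⟨Units.mk0 x.1 x.2.1, x.2.2⟩
          left_inv := fun x => Subtype.ext (Units.ext rfl)
          right_inv := fun x => rfl }).symm
      have hinv : ∀ z ∈ Z, ∀ x : Lˣ, x * z ∈ S' ↔ x ∈ S' := by
        intro z hz x
        obtain ⟨n, rfl⟩ := Subgroup.mem_zpowers_iff.1 hz
        have hone : ((l ^ n : Lˣ) : L) * σ ((l ^ n : Lˣ) : L) = 1 := by
          have : l * Units.map σ.toMonoidHom l = 1 := Units.ext hl1
          have h2 := congrArg (· ^ n) this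
          simp only [_root_.mul_zpow, _root_.one_zpow, ← map_zpow] at h2
          exact congrArg Units.val h2
        show Q _ = 0 ↔ Q _ = 0
        rw [hQ, hQ, Units.val_mul, map_mul σ, mul_mul_mul_comm, hone, mul_one]
      have hcard : Nat.card Z = q ^ k + 1 := by rw [Nat.card_zpowers, hlo]
      have hpre : S' = (QuotientGroup.mk : Lˣ → Lˣ ⧸ Z) ⁻¹' (QuotientGroup.mk '' S') := by
        refine Set.Subset.antisymm (Set.subset_preimage_image _ _) ?_
        rintro x ⟨y, hy, hxy⟩
        obtain ⟨z, hz, rfl⟩ : ∃ z ∈ Z, y * z = x := ⟨y⁻¹ * x, QuotientGroup.eq.1 hxy, mul_inv_cancel_left _ _⟩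
        exact (hinv z hz y).2 hy
      rw [hSS', hpre, Nat.card_congr (QuotientGroup.preimageMkEquivSubgroupProdSet Z _), Nat.card_prod, hcard]
      exact dvd_mul_right _ _
    have hplus : Nat.card S + 1 = q ^ (2 * k - 1) + q ^ k - q ^ (k - 1) := by
      rw [← Cfsg.Agent.S0289.result hq.symm k hd, ← Nat.card_congr
        (e.toEquiv.subtypeEquiv (p := fun x => Q x = 0) fun x => by rw [he x]; rfl)]
      have hins : ({x | Q x = 0} : Set L) = insert 0 S := by
        ext x
        by_cases hx : x = 0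
        · simp [hx]
        · simp [S, hx]
      show _ = Nat.card ({x | Q x = 0} : Set L)
      rw [hins, Nat.card_coe_set_eq, Nat.card_coe_set_eq,
        Set.ncard_insert_of_notMem (fun h => h.1 rfl) (Set.toFinite S)]
    obtain ⟨c, hc⟩ := hdvd
    obtain ⟨j, rfl⟩ : ∃ j, k = j + 1 := ⟨k - 1, by omega⟩
    have hP : q ^ (j + 1) = q * q ^ j := pow_succ' q j
    have hQq : q ^ (2 * (j + 1) - 1) = q ^ (j + 1) * q ^ j := by
      rw [← pow_add]; congr 1; omega
    rw [hQq, hc, Nat.add_sub_cancel] at hplus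
    set P := q ^ (j + 1)
    set R := q ^ j
    have hR : 1 ≤ R := Nat.one_le_pow _ _ (by omega)
    have h2R : 2 * R ≤ P := by rw [hP]; exact Nat.mul_le_mul_right _ hq2
    have h4 : (P + 1) * c + 1 + R = P * R + P := by omega
    rcases le_or_gt c R with hcR | hcR
    · have : (P + 1) * c ≤ P * R + R := by rw [← Nat.succ_mul]; exact Nat.mul_le_mul_left _ hcR
      have hlt : c < R ∨ c = R := lt_or_eq_of_le hcR
      rcases hlt with hlt | hlt
      · have : (P + 1) * (c + 1) ≤ P * R + R := by rw [← Nat.succ_mul]; exact Nat.mul_le_mul_left _ hlt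
        rw [mul_add, mul_one] at this
        omega
      · rw [hlt, add_mul, one_mul] at h4
        obtain ⟨m, hm⟩ : 2 ∣ P := by
          refine dvd_pow ?_ (Nat.succ_ne_zero j)
          obtain ⟨n, -, hn⟩ := FiniteField.card F 2
          rw [hq, hn]
          exact dvd_pow_self 2 n.pos.ne'
        omega
    · have : (P + 1) * (R + 1) ≤ (P + 1) * c := Nat.mul_le_mul_left _ hcR
      have h5 : (P + 1) * (R + 1) = P * R + P + R + 1 := by ring
      omega
  · omega
  · obtain rfl : k = d - 1 := by omega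
    obtain ⟨M, hM⟩ := Forms59.exists_binary_isometry ζ' ζ hζ' hζ
    obtain ⟨T, hT⟩ := Forms59.exists_isometry_minus_of_binary (d - 1) 1 ζ' 1 ζ M hM
    exact helt.of_equiv (e.trans T) fun v => by rw [he v, LinearEquiv.trans_apply]; exact hT _

end Cfsg.Agent.Iso52
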