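import Cfsg.Agent.Iso52.Unipotent
import Cfsg.Agent.Iso52.Torus

/-!
Combining tori and unipotent blocks inside the elliptic form of dimension eight (helper52).
-/

set_option autoImplicit false

namespace Cfsg.Agent.Iso52

/-- A torus type: half dimension, and whether it is of split kind. -/
abbrev Typ := ℕ × Bool

/-- The order of the torus. -/
def val (q : ℕ) (t : Typ) : ℕ := if t.2 then q ^ t.1 - 1 else q ^ t.1 + 1

/-- Divisibility of torus orders. -/
def covB (t u : Typ) : Bool :=
  if t.2 then u.2 && (u.1 % t.1 == 0)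
  else if u.2 then u.1 % (2 * t.1) == 0 else u.1 % (2 * t.1) == t.1

theorem val_dvd {q : ℕ} {t u : Typ} (h : covB t u = true) : val q t ∣ val q u := by
  obtain ⟨d, a⟩ := t
  obtain ⟨e, b⟩ := u
  cases a <;> cases b <;> simp only [covB, Bool.false_eq_true, if_false, if_true, Bool.and_eq_true,
    beq_iff_eq, Bool.false_and] at h <;> simp only [val, Bool.false_eq_true, if_false, if_true]
  · rw [← Nat.div_add_mod e (2 * d), h, show 2 * d * (e / (2 * d)) + d = d * (2 * (e / (2 * d)) + 1) by ring,
      pow_mul]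
    simpa using (odd_two_mul_add_one (e / (2 * d))).nat_add_dvd_pow_add_pow (q ^ d) 1
  · obtain ⟨c, rfl⟩ := Nat.dvd_of_mod_eq_zero h
    rw [pow_mul]
    refine dvd_trans ?_ (Nat.sub_one_dvd_pow_sub_one (q ^ (2 * d)) c)
    rw [mul_comm 2 d, pow_mul, ← one_pow 2, Nat.sq_sub_sq, one_pow]
    exact dvd_mul_right _ _
  · obtain ⟨-, h⟩ := h
    obtain ⟨c, rfl⟩ := Nat.dvd_of_mod_eq_zero h
    rw [pow_mul]
    exact Nat.sub_one_dvd_pow_sub_one _ c

/-- Total half dimension. -/
def sumD (l : Multiset Typ) : ℕ := (l.map Prod.fst).sum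

/-- The number of elliptic pieces. -/
def minusCount (l : Multiset Typ) : ℕ := l.countP fun t => t.2 = false

/-- The exponent of a collection of tori. -/
def expo (q : ℕ) (l : Multiset Typ) : ℕ := (l.map (val q)).lcm

/-- The pieces can be completed to an elliptic form in dimension eight. -/
def Fits (k : ℕ) (l : Multiset Typ) : Prop :=
  k + sumD l ≤ 4 ∧ (1 ≤ k ∨ sumD l < 4 ∨ Odd (minusCount l))

instance (k : ℕ) (l : Multiset Typ) : Decidable (Fits k l) := by unfold Fits; infer_instance

def repls : List (Multiset Typ) :=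
  [{(4, false)}, {(2, false), (2, true)}, {(3, true), (1, false)}, {(3, false), (1, true)}]

/-- The order of `t` divides the exponent of `l`. -/
def CovL (t : Typ) (l : Multiset Typ) : Prop :=
  (∃ u ∈ l.toFinset, covB t u = true) ∨ (t = (4, true) ∧ (2, false) ∈ l ∧ (2, true) ∈ l)

instance (t : Typ) (l : Multiset Typ) : Decidable (CovL t l) := by unfold CovL; infer_instance

theorem dvd_expo_of_covL {q : ℕ} (hq : Even q) (hq0 : 0 < q) {t : Typ} {l : Multiset Typ} (h : CovL t l) :
    val q t ∣ expo q l := by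
  have hmem : ∀ u ∈ l, val q u ∣ expo q l := fun u hu => Multiset.dvd_lcm (Multiset.mem_map_of_mem _ hu)
  rcases h with ⟨u, hu, hc⟩ | ⟨rfl, h1, h2⟩
  · exact (val_dvd hc).trans (hmem u (Multiset.mem_toFinset.1 hu))
  · have ha := hmem _ h1
    have hb := hmem _ h2
    simp only [val, Bool.false_eq_true, if_false, if_true] at ha hb ⊢
    have hev : Even (q ^ 2) := (Nat.even_pow' two_ne_zero).2 hq
    have h1 : 1 ≤ q ^ 2 := Nat.one_le_pow _ _ hq0
    have hco : Nat.Coprime (q ^ 2 + 1) (q ^ 2 - 1) := by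
      rw [← Nat.coprime_sub_self_left (by omega), show q ^ 2 + 1 - (q ^ 2 - 1) = 2 by omega]
      exact Nat.coprime_two_left.2 (Nat.Even.sub_odd h1 hev odd_one)
    have := hco.mul_dvd_of_dvd_of_dvd ha hb
    rwa [← Nat.sq_sub_sq, one_pow, ← pow_mul] at this

theorem table : ∀ T ∈ (((Finset.Icc 1 4) ×ˢ (Finset.univ : Finset Bool)).powerset : Finset (Finset Typ)),
    ∀ k ∈ Finset.range 5, k + sumD T.val ≤ 4 → Fits k T.val ∨
      ∃ l ∈ repls, Fits k l ∧ (∀ t ∈ l, 1 ≤ t.1) ∧ ∀ t ∈ T, CovL t l := by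
  decide +kernel

section Realise

variable {F : Type*} [Field F]

/-- An element of the form of given type and half dimension. -/
def EPiece (ζ : F) (minus : Bool) (n N : ℕ) : Prop :=
  if minus then 1 ≤ n ∧ HasElt (mForm F (n - 1) ζ) N else HasElt (pForm F n) N

variable [CharP F 2] {ζ : F}

theorem EPiece.add {a b : Bool} {n m M N : ℕ} (h : EPiece ζ a n M) (h' : EPiece ζ b m N) :
    EPiece ζ (xor a b) (n + m) (Nat.lcm M N) := by
  cases a <;> cases b <;> simp only [EPiece, Bool.false_eq_true, if_false, if_true, Bool.false_xor,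
    Bool.xor_false, Bool.true_xor, Bool.not_true] at h h' ⊢
  · exact hasElt_pp h h'
  · refine ⟨by omega, ?_⟩
    rw [show n + m - 1 = n + (m - 1) by omega]
    exact hasElt_pm h h'.2
  · refine ⟨by omega, ?_⟩
    rw [show n + m - 1 = m + (n - 1) by omega, Nat.lcm_comm]
    exact hasElt_pm h' h.2
  · rw [show n + m = (n - 1) + (m - 1) + 2 by omega]
    exact hasElt_mm h.2 h'.2

omit [CharP F 2] in
theorem epiece_one (a : Bool) {n : ℕ} (hn : a = true → 1 ≤ n) : EPiece ζ a n 1 := by
  cases a <;> simp only [EPiece, Bool.false_eq_true, if_false, if_true]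
  · exact HasElt.one _
  · exact ⟨hn rfl, HasElt.one _⟩

theorem epiece_block (a : Bool) {k : ℕ} (hk : 1 ≤ k) (hk3 : k ≤ 3) : EPiece ζ a k (2 ^ k) := by
  obtain ⟨j, rfl⟩ : ∃ j, k = j + 1 := ⟨k - 1, by omega⟩
  cases a <;> simp only [EPiece, Bool.false_eq_true, if_false, if_true, Nat.add_sub_cancel]
  · exact hasElt_p_unip (by omega)
  · exact ⟨by omega, hasElt_m_unip ζ (by omega)⟩

variable [Fintype F] (hζ : ∀ t : F, t ^ 2 + t + ζ ≠ 0)
include hζ

theorem epiece_tori (l : Multiset Typ) (hl : ∀ t ∈ l, 1 ≤ t.1) :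
    EPiece ζ (decide (Odd (minusCount l))) (sumD l) (expo (Fintype.card F) l) := by
  induction l using Multiset.induction with
  | empty => simpa [minusCount, sumD, expo] using epiece_one (ζ := ζ) false (n := 0) (by simp)
  | cons t l ih =>
    have h1 := hl t (Multiset.mem_cons_self _ _)
    have h2 := ih fun u hu => hl u (Multiset.mem_cons_of_mem hu)
    have ht : EPiece ζ (!t.2) t.1 (val (Fintype.card F) t) := by
      obtain ⟨d, b⟩ := t
      cases b <;> simp only [EPiece, val, Bool.not_false, Bool.not_true, Bool.false_eq_true, if_false, if_true]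
      · exact ⟨h1, hasElt_m_torus ζ hζ h1⟩
      · exact hasElt_p_torus h1
    have h3 := ht.add h2
    rw [expo, Multiset.map_cons, Multiset.lcm_cons, lcm_eq_nat_lcm, sumD, Multiset.map_cons, Multiset.sum_cons]
    convert h3 using 2
    any_goals rfl
    · obtain ⟨d, b⟩ := t
      cases b <;> simp [minusCount, Nat.odd_add_one, decide_not, ← Nat.not_odd_iff_even] <;>
        exact decide_eq_decide.2 Iff.rfl

theorem hasElt_of_fits {k : ℕ} (l : Multiset Typ) (hl : ∀ t ∈ l, 1 ≤ t.1) (hk : k ≤ 3) (h : Fits k l) :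
    HasElt (mForm F 3 ζ) (Nat.lcm (2 ^ k) (expo (Fintype.card F) l)) := by
  have hT := epiece_tori hζ l hl
  obtain ⟨hsum, hfit⟩ := h
  set b := decide (Odd (minusCount l)) with hb
  suffices EPiece ζ true 4 (Nat.lcm (2 ^ k) (expo (Fintype.card F) l)) by
    simpa [EPiece] using this
  rcases Nat.eq_zero_or_pos k with rfl | hk1
  · rw [pow_zero]
    by_cases h4 : sumD l = 4
    · have : b = true := by
        rcases hfit with h | h | h
        · omega
        · omega
        · exact decide_eq_true h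
      rw [this, h4] at hT
      simpa using hT
    · have h2 := (epiece_one (ζ := ζ) (!b) (n := 4 - sumD l) (fun _ => by omega)).add hT
      rw [Bool.not_xor_self, show 4 - sumD l + sumD l = 4 by omega] at h2
      exact h2
  · have h2 := ((epiece_block (ζ := ζ) (!b) hk1 hk).add hT).add
      (epiece_one (ζ := ζ) false (n := 4 - (k + sumD l)) (by simp))
    rw [Bool.not_xor_self, Bool.xor_false, show k + sumD l + (4 - (k + sumD l)) = 4 by omega,
      Nat.lcm_one_right] at h2
    exact h2

end Realise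

end Cfsg.Agent.Iso52
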