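import Cfsg.Agent.Iso52.Forms

/-!
Isometries of order `2^k` of the forms of both types in dimension `2k` in characteristic two (helper52).
-/

set_option autoImplicit false
set_option linter.unreachableTactic false
set_option linter.unusedTactic false
set_option linter.unnecessarySeqFocus false

namespace Cfsg.Agent.Iso52

variable {F : Type*} [Field F] [CharP F 2]

/-- An isometry of order `2` of the binary form. -/
def u1 (ζ : F) : Module.End F ((Fin 0 ⊕ Fin 0) ⊕ Fin 2 → F) :=
  { toFun := fun v => Sum.elim (fun i => v (.inl i)) ![v (.inr 0) + v (.inr 1), v (.inr 1) + 0 * ζ]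
    map_add' := fun v w => by
      funext i
      rcases i with (i | i) | i <;> fin_cases i <;> simp <;> ring
    map_smul' := fun c v => by
      funext i
      rcases i with (i | i) | i <;> fin_cases i <;> simp <;> ring }

/-- An isometry of order `4` in dimension four. -/
def u2 (ζ : F) : Module.End F ((Fin 1 ⊕ Fin 1) ⊕ Fin 2 → F) where
  toFun v := Sum.elim (Sum.elim
      ![v (.inl (.inl 0)) + v (.inr 0) + ζ * v (.inl (.inr 0))] ![v (.inl (.inr 0))])
      ![v (.inr 0) + v (.inr 1) + v (.inl (.inr 0)), v (.inr 1) + v (.inl (.inr 0))]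
  map_add' v w := by
    funext i
    rcases i with (i | i) | i <;> fin_cases i <;> simp <;> ring
  map_smul' c v := by
    funext i
    rcases i with (i | i) | i <;> fin_cases i <;> simp <;> ring

/-- An isometry of order `8` in dimension six. -/
def u3 (ζ : F) : Module.End F ((Fin 2 ⊕ Fin 2) ⊕ Fin 2 → F) where
  toFun v := Sum.elim (Sum.elim
      ![v (.inl (.inl 0)) + (v (.inl (.inl 1)) + v (.inr 0) + ζ * v (.inl (.inr 1))),
        v (.inl (.inl 1)) + v (.inr 0) + ζ * v (.inl (.inr 1))]
      ![v (.inl (.inr 0)), v (.inl (.inr 1)) + v (.inl (.inr 0))])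
      ![v (.inr 0) + v (.inr 1) + v (.inl (.inr 1)), v (.inr 1) + v (.inl (.inr 1))]
  map_add' v w := by
    funext i
    rcases i with (i | i) | i <;> fin_cases i <;> simp <;> ring
  map_smul' c v := by
    funext i
    rcases i with (i | i) | i <;> fin_cases i <;> simp <;> ring

theorem u1_order (ζ : F) : orderOf (u1 ζ) = 2 := by
  haveI : Fact (Nat.Prime 2) := ⟨Nat.prime_two⟩
  refine orderOf_eq_prime (LinearMap.ext fun v => ?_) fun h => ?_
  · funext i
    rcases i with (i | i) | i <;> fin_cases i <;> simp [pow_succ, u1] <;> grind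
  · have := congrFun (LinearMap.congr_fun h (Pi.single (Sum.inr 1) 1)) (Sum.inr 0)
    simp [u1] at this

theorem u2_order (ζ : F) : orderOf (u2 ζ) = 4 := by
  haveI : Fact (Nat.Prime 2) := ⟨Nat.prime_two⟩
  refine orderOf_eq_prime_pow (p := 2) (n := 1) (fun h => ?_) (LinearMap.ext fun v => ?_)
  · have := congrFun (LinearMap.congr_fun h (Pi.single (Sum.inl (Sum.inr 0)) 1)) (Sum.inr 0)
    simp [pow_succ, u2] at this
    grind
  · funext i
    rcases i with (i | i) | i <;> fin_cases i <;> simp [pow_succ, u2] <;> grind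

theorem u3_order (ζ : F) : orderOf (u3 ζ) = 8 := by
  haveI : Fact (Nat.Prime 2) := ⟨Nat.prime_two⟩
  refine orderOf_eq_prime_pow (p := 2) (n := 2) (fun h => ?_) (LinearMap.ext fun v => ?_)
  · have := congrFun (LinearMap.congr_fun h (Pi.single (Sum.inl (Sum.inr 0)) 1)) (Sum.inl (Sum.inl 1))
    simp [pow_succ, u3] at this
    grind
  · funext i
    rcases i with (i | i) | i <;> fin_cases i <;> simp [pow_succ, u3] <;> grind

theorem hasElt_m_unip (ζ : F) {k : ℕ} (hk : k < 3) : HasElt (mForm F k ζ) (2 ^ (k + 1)) := by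
  interval_cases k
  · exact HasElt.of_end (u1 ζ) (by norm_num) (by rw [u1_order]; norm_num) fun v => by
      simp [u1, mForm, Cfsg.quadFormMinus]; grind
  · exact HasElt.of_end (u2 ζ) (by norm_num) (by rw [u2_order]; norm_num) fun v => by
      simp [u2, mForm, Cfsg.quadFormMinus]; grind
  · exact HasElt.of_end (u3 ζ) (by norm_num) (by rw [u3_order]; norm_num) fun v => by
      simp [u3, mForm, Cfsg.quadFormMinus, Fin.sum_univ_two]; grind

theorem hasElt_p_unip {k : ℕ} (hk : k < 3) : HasElt (pForm F (k + 1)) (2 ^ (k + 1)) :=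
  hasElt_of_zero (hasElt_m_unip 0 hk)

end Cfsg.Agent.Iso52
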